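import Groth.Agent.H40.CD.LocalFactor
import Mathlib.AlgebraicGeometry.Limits
import Mathlib.CategoryTheory.Extensive

/-!
# Finite coproducts of closed immersions
-/

set_option autoImplicit false
set_option backward.isDefEq.respectTransparency.types false
universe u

open CategoryTheory AlgebraicGeometry Limits TopologicalSpace

namespace Groth.Agent.H40.CD

section

variable {σ : Type} [Finite σ] (W O : σ → Scheme.{u}) (j : ∀ k, W k ⟶ O k)

/-- the squares of a finite coproduct of morphisms are cartesian. -/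
theorem isPullback_sigmaMap (k : σ) :
    IsPullback (Sigma.ι W k) (j k) (Limits.Sigma.map j) (Sigma.ι O k) := by
  have hvk : IsVanKampenColimit (colimit.cocone (Discrete.functor O)) :=
    FinitaryExtensive.isVanKampen_finiteCoproducts (colimit.isColimit _)
  have := (hvk (colimit.cocone (Discrete.functor W)) (Discrete.natTrans fun k => j k.as)
    (Limits.Sigma.map j) (by
      ext ⟨k⟩
      simp [Limits.Sigma.map]) (NatTrans.Equifibered.of_discrete _)).mp ⟨colimit.isColimit _⟩ ⟨k⟩
  exact this

/-- a finite coproduct of closed immersions is a closed immersion. -/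
theorem isClosedImmersion_sigmaMap [hj : ∀ k, IsClosedImmersion (j k)] :
    IsClosedImmersion (Limits.Sigma.map j) := by
  rw [IsZariskiLocalAtTarget.iff_of_openCover (P := @IsClosedImmersion) (sigmaOpenCover O)]
  intro k
  have hp := isPullback_sigmaMap W O j k
  have e : hp.isoPullback.hom ≫ (sigmaOpenCover O).pullbackHom (Limits.Sigma.map j) k = j k :=
    hp.isoPullback_hom_snd
  have h1 : IsClosedImmersion
      (hp.isoPullback.hom ≫ (sigmaOpenCover O).pullbackHom (Limits.Sigma.map j) k) := by
    rw [e]; exact hj k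
  exact (MorphismProperty.cancel_left_of_respectsIso @IsClosedImmersion hp.isoPullback.hom _).mp h1

omit [Finite σ] in
/-- the preimages of the components of a coproduct cover the source. -/
theorem iSup_preimage_opensRange_sigmaι {T : Scheme.{u}} (u₁ : T ⟶ ∐ O) :
    ⨆ k : ULift.{u} σ, u₁ ⁻¹ᵁ (Sigma.ι O k.down).opensRange = ⊤ := by
  rw [← Scheme.Hom.preimage_iSup]
  have : ⨆ k : ULift.{u} σ, (Sigma.ι O k.down).opensRange = ⊤ := by
    have := (sigmaOpenCover O).iSup_opensRange
    rw [eq_top_iff] at this ⊢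
    refine this.trans (iSup_le fun k => ?_)
    exact le_iSup_of_le (ULift.up k) le_rfl
  rw [this]
  rfl

/-- factoring through a finite coproduct of monomorphisms can be tested on the components. -/
theorem factors_sigmaMap_iff [∀ k, Mono (j k)] [Mono (Limits.Sigma.map j)] {T : Scheme.{u}}
    (u₁ : T ⟶ ∐ O) :
    (∃ w : T ⟶ ∐ W, w ≫ Limits.Sigma.map j = u₁) ↔
      ∀ (k : σ) (T' : Scheme.{u}) (t : T' ⟶ T) (x : T' ⟶ O k), x ≫ Sigma.ι O k = t ≫ u₁ →
        ∃ v : T' ⟶ W k, v ≫ j k = x := by
  constructor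
  · rintro ⟨w, rfl⟩ k T' t x hx
    have hp := isPullback_sigmaMap W O j k
    exact ⟨hp.lift (t ≫ w) x (by rw [Category.assoc, hx]), hp.lift_snd _ _ _⟩
  · intro h
    apply factors_of_zariski_locally (Limits.Sigma.map j) u₁
      (fun k : ULift.{u} σ => u₁ ⁻¹ᵁ (Sigma.ι O k.down).opensRange)
    · exact iSup_preimage_opensRange_sigmaι O u₁
    · rintro ⟨k⟩
      have hr : Set.range ((u₁ ⁻¹ᵁ (Sigma.ι O k).opensRange).ι ≫ u₁) ⊆
          Set.range (Sigma.ι O k) := by
        rintro _ ⟨y, rfl⟩
        exact y.2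
      obtain ⟨v, hv⟩ := h k _ (u₁ ⁻¹ᵁ (Sigma.ι O k).opensRange).ι
        (IsOpenImmersion.lift (Sigma.ι O k) _ hr) (IsOpenImmersion.lift_fac _ _ _)
      refine ⟨v ≫ Sigma.ι W k, ?_⟩
      have e : Sigma.ι W k ≫ Limits.Sigma.map j = j k ≫ Sigma.ι O k := by
        simp [Limits.Sigma.map]
      rw [Category.assoc, e, ← Category.assoc, hv]
      exact IsOpenImmersion.lift_fac _ _ _

end

end Groth.Agent.H40.CD
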