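import Groth.Agent.H40.CD.AffineCore
import Groth.Agent.H40.CD.SigmaClosed

/-!
# Affine core of closed descent, with the descent hypothesis only for base changes of the atlas;
finite families of flat affine charts.
-/

set_option autoImplicit false
set_option backward.isDefEq.respectTransparency.types false
universe u

open CategoryTheory AlgebraicGeometry Limits TensorProduct

namespace Groth.Agent.H40.CD

section

variable {V U₁ W₁ : Scheme.{u}} [IsAffine V] [IsAffine U₁] (p : U₁ ⟶ V) [Flat p] [Surjective p]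
  (F : ∀ ⦃T : Scheme.{u}⦄, (T ⟶ V) → Prop)
  (hF1 : ∀ ⦃T T' : Scheme.{u}⦄ (h : T' ⟶ T) (g : T ⟶ V), F g → F (h ≫ g))
  (hF2 : ∀ ⦃T : Scheme.{u}⦄ (g : T ⟶ V), F (pullback.fst g p ≫ g) → F g)
  (j : W₁ ⟶ U₁) [IsClosedImmersion j]
  (hF3 : ∀ ⦃T : Scheme.{u}⦄ (u₁ : T ⟶ U₁), F (u₁ ≫ p) ↔ ∃ w : T ⟶ W₁, w ≫ j = u₁)

include hF1 hF2 hF3 in
theorem affine_core_aux' [Algebra Γ(V, ⊤) Γ(U₁, ⊤)]
    (halg : algebraMap Γ(V, ⊤) Γ(U₁, ⊤) = p.appTop.hom) (hflat : Module.Flat Γ(V, ⊤) Γ(U₁, ⊤)) :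
    ∃ I : Ideal Γ(V, ⊤), ∀ ⦃T : Scheme.{u}⦄ (g : T ⟶ V),
      F g ↔ I ≤ RingHom.ker g.appTop.hom := by
  set J := RingHom.ker j.appTop.hom with hJ
  have hdd := descent_datum p F j hF3 halg
  have hJle := le_map_comap_of_descent J hdd
  rw [halg] at hJle
  refine ⟨J.comap p.appTop.hom, fun T g => ?_⟩
  have hcond : pullback.fst g p ≫ g = pullback.snd g p ≫ p := pullback.condition
  have happ : ∀ a : Γ(V, ⊤), (pullback.fst g p).appTop.hom (g.appTop.hom a) =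
      (pullback.snd g p).appTop.hom (p.appTop.hom a) := by
    intro a
    have := congrArg (fun h => (Scheme.Hom.appTop h).hom a) hcond
    simpa only [Scheme.Hom.comp_appTop, CommRingCat.hom_comp, RingHom.comp_apply] using this
  constructor
  · intro hg a ha
    have h1 : F (pullback.snd g p ≫ p) := by
      rw [← hcond]; exact hF1 _ _ hg
    rw [hF3, factors_iff_of_isAffine] at h1
    have h2 : (pullback.snd g p).appTop.hom (p.appTop.hom a) = 0 := h1 ha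
    rw [← happ] at h2
    rw [RingHom.mem_ker]
    exact eq_zero_of_app_eq_zero_single (pullback.fst g p) ⊤ _ h2
  · intro hI
    apply hF2 g
    rw [hcond, hF3, factors_iff_of_isAffine]
    refine hJle.trans ?_
    rw [Ideal.map_le_iff_le_comap]
    intro a ha
    rw [Ideal.mem_comap, RingHom.mem_ker]
    change (pullback.snd g p).appTop.hom (p.appTop.hom a) = 0
    rw [← happ]
    have := hI ha
    rw [RingHom.mem_ker] at this
    rw [this, map_zero]

include hF1 hF2 hF3 in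
/-- **Affine core of closed descent**, descent hypothesis only along base changes of `p`. -/
theorem affine_core' :
    ∃ I : Ideal Γ(V, ⊤), ∀ ⦃T : Scheme.{u}⦄ (g : T ⟶ V),
      F g ↔ I ≤ RingHom.ker g.appTop.hom := by
  letI : Algebra Γ(V, ⊤) Γ(U₁, ⊤) := p.appTop.hom.toAlgebra
  have hflat : Module.Flat Γ(V, ⊤) Γ(U₁, ⊤) :=
    (HasRingHomProperty.iff_of_isAffine (P := @Flat) (f := p)).mp inferInstance
  exact affine_core_aux' p F hF1 hF2 j hF3 rfl hflat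

end

section family

variable {V : Scheme.{u}} [IsAffine V] {n : ℕ} (O W : Fin n → Scheme.{u}) [∀ k, IsAffine (O k)]
  (p : ∀ k, O k ⟶ V) [hp : ∀ k, Flat (p k)] (hsurj : ∀ y : V, ∃ k, y ∈ Set.range (p k))
  (j : ∀ k, W k ⟶ O k) [hj : ∀ k, IsClosedImmersion (j k)]
  (F : ∀ ⦃T : Scheme.{u}⦄, (T ⟶ V) → Prop)
  (hF1 : ∀ ⦃T T' : Scheme.{u}⦄ (h : T' ⟶ T) (g : T ⟶ V), F g → F (h ≫ g))
  (hF2z : ∀ ⦃T : Scheme.{u}⦄ (g : T ⟶ V) {σ : Type u} (O : σ → T.Opens), (⨆ i, O i = ⊤) →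
    (∀ i, F ((O i).ι ≫ g)) → F g)
  (hF3 : ∀ (k : Fin n) ⦃T : Scheme.{u}⦄ (x : T ⟶ O k), F (x ≫ p k) ↔ ∃ w : T ⟶ W k, w ≫ j k = x)

include hF1 hF2z hF3 in
/-- the coproduct of a finite family of charts is a chart. -/
theorem sigma_chart ⦃T : Scheme.{u}⦄ (u₁ : T ⟶ ∐ O) :
    F (u₁ ≫ Sigma.desc p) ↔ ∃ w : T ⟶ ∐ W, w ≫ Limits.Sigma.map j = u₁ := by
  haveI := isClosedImmersion_sigmaMap _ _ j
  rw [factors_sigmaMap_iff]
  constructor
  · intro h k T' t x hx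
    rw [← hF3]
    have := hF1 t _ h
    rwa [← Category.assoc, ← hx, Category.assoc, Sigma.ι_desc] at this
  · intro h
    apply hF2z _ _ (iSup_preimage_opensRange_sigmaι _ u₁)
    rintro ⟨k⟩
    have hr' : Set.range ((u₁ ⁻¹ᵁ (Sigma.ι O k).opensRange).ι ≫ u₁) ⊆
        Set.range (Sigma.ι O k) := by
      rintro _ ⟨y, rfl⟩
      exact y.2
    obtain ⟨v, hv⟩ := h k _ (u₁ ⁻¹ᵁ (Sigma.ι O k).opensRange).ι
      (IsOpenImmersion.lift (Sigma.ι O k) _ hr') (IsOpenImmersion.lift_fac _ _ _)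
    have e : (u₁ ⁻¹ᵁ (Sigma.ι O k).opensRange).ι ≫ u₁ ≫ Sigma.desc p = (v ≫ j k) ≫ p k := by
      rw [hv, ← Sigma.ι_desc p k, IsOpenImmersion.lift_fac_assoc, Category.assoc]
    change F ((u₁ ⁻¹ᵁ (Sigma.ι O k).opensRange).ι ≫ u₁ ≫ Sigma.desc p)
    rw [e, hF3]
    exact ⟨v, rfl⟩

include hsurj in
theorem surjective_sigmaDesc : Surjective (Sigma.desc p) := by
  refine ⟨fun y => ?_⟩
  obtain ⟨k, z, hz⟩ := hsurj y
  refine ⟨Sigma.ι O k z, ?_⟩
  rw [← Scheme.Hom.comp_apply, Sigma.ι_desc]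
  exact hz

include hF1 hF2z hF3 hsurj in
/-- affine core for a finite jointly surjective family of flat affine charts. -/
theorem affine_core_family
    (hF2 : ∀ ⦃T : Scheme.{u}⦄ (g : T ⟶ V), F (pullback.fst g (Sigma.desc p) ≫ g) → F g) :
    ∃ I : Ideal Γ(V, ⊤), ∀ ⦃T : Scheme.{u}⦄ (g : T ⟶ V),
      F g ↔ I ≤ RingHom.ker g.appTop.hom := by
  haveI := isClosedImmersion_sigmaMap _ _ j
  haveI : Flat (Sigma.desc p) := IsZariskiLocalAtSource.sigmaDesc hp
  haveI := surjective_sigmaDesc O p hsurj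
  exact affine_core' (Sigma.desc p) F hF1 hF2 (Limits.Sigma.map j)
    (sigma_chart O W p j F hF1 hF2z hF3)

include hF1 hF2z hF3 hsurj in
/-- affine core for a finite open cover by affine charts. -/
theorem affine_core_openCover [∀ k, IsOpenImmersion (p k)] :
    ∃ I : Ideal Γ(V, ⊤), ∀ ⦃T : Scheme.{u}⦄ (g : T ⟶ V),
      F g ↔ I ≤ RingHom.ker g.appTop.hom := by
  apply affine_core_family O W p hsurj j F hF1 hF2z hF3
  intro T g hg
  apply hF2z g (fun k : ULift.{u} (Fin n) => g ⁻¹ᵁ (p k.down).opensRange)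
  · rw [← Scheme.Hom.preimage_iSup]
    have : ⨆ k : ULift.{u} (Fin n), (p k.down).opensRange = ⊤ := by
      rw [eq_top_iff]
      intro y _
      obtain ⟨k, hk⟩ := hsurj y
      exact TopologicalSpace.Opens.mem_iSup.mpr ⟨⟨k⟩, hk⟩
    rw [this]; rfl
  · rintro ⟨k⟩
    have hr : Set.range ((g ⁻¹ᵁ (p k).opensRange).ι ≫ g) ⊆ Set.range (p k) := by
      rintro _ ⟨y, rfl⟩
      exact y.2
    have e : (g ⁻¹ᵁ (p k).opensRange).ι ≫ g =
        pullback.lift (g ⁻¹ᵁ (p k).opensRange).ι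
          (IsOpenImmersion.lift (p k) _ hr ≫ Sigma.ι O k)
          (by rw [Category.assoc, Sigma.ι_desc, IsOpenImmersion.lift_fac]) ≫
        pullback.fst g (Sigma.desc p) ≫ g := by
      rw [pullback.lift_fst_assoc]
    change F ((g ⁻¹ᵁ (p k).opensRange).ι ≫ g)
    rw [e]
    exact hF1 _ _ hg

end family

end Groth.Agent.H40.CD
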