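import Groth.Agent.H40.CD.Glob2
import Groth.Agent.H40.CD.AffineCore2

/-!
# Representability by a closed subscheme is Zariski local on the target
-/

set_option autoImplicit false
set_option backward.isDefEq.respectTransparency.types false
universe u

open CategoryTheory AlgebraicGeometry Limits TopologicalSpace

namespace Groth.Agent.H40.CD

theorem isClosedImmersion_ofRingHom {Y : Scheme.{u}} [IsAffine Y] {R : CommRingCat.{u}}
    (ψ : Γ(Y, ⊤) ⟶ R) (h : Function.Surjective ψ.hom) : IsClosedImmersion (ofRingHom ψ) := by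
  haveI : IsClosedImmersion (Spec.map ψ) := IsClosedImmersion.spec_of_surjective ψ h
  rw [ofRingHom]
  infer_instance

section

variable {X : Scheme.{u}} (F : ∀ ⦃T : Scheme.{u}⦄, (T ⟶ X) → Prop)
  (hF1 : ∀ ⦃T T' : Scheme.{u}⦄ (h : T' ⟶ T) (g : T ⟶ X), F g → F (h ≫ g))
  (hF2z : ∀ ⦃T : Scheme.{u}⦄ (g : T ⟶ X) {σ : Type u} (O : σ → T.Opens), (⨆ i, O i = ⊤) →
    (∀ i, F ((O i).ι ≫ g)) → F g)

include hF1 hF2z in
/-- a Zariski-local subfunctor of `X` which is, locally on `X`, represented by closed subschemes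
is represented by a closed subscheme. -/
theorem closed_of_zariski_local
    (hloc : ∀ x : X, ∃ (D : X.Opens) (W : Scheme.{u}) (ι : W ⟶ D.toScheme), x ∈ D ∧
      IsClosedImmersion ι ∧
      ∀ ⦃T : Scheme.{u}⦄ (g : T ⟶ D.toScheme), F (g ≫ D.ι) ↔ ∃ w : T ⟶ W, w ≫ ι = g) :
    ∃ (W : Scheme.{u}) (ι : W ⟶ X), IsClosedImmersion ι ∧
      ∀ ⦃T : Scheme.{u}⦄ (g : T ⟶ X), F g ↔ ∃ w : T ⟶ W, w ≫ ι = g := by
  apply closed_of_affine_local F hF1 hF2z
  intro V
  apply ideal_of_toScheme_ideal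
  haveI : IsAffine V.1.toScheme := V.2
  choose D W ι hxD hι hW using hloc
  have hE : ∀ x : V.1, ∃ E : X.Opens, IsAffineOpen E ∧ x.1 ∈ E ∧ E ≤ V.1 ⊓ D x.1 := by
    intro x
    obtain ⟨E, hE, hx, hle⟩ := TopologicalSpace.Opens.isBasis_iff_nbhd.mp X.isBasis_affineOpens
      (show x.1 ∈ V.1 ⊓ D x.1 from ⟨x.2, hxD x.1⟩)
    exact ⟨E, hE, hx, hle⟩
  choose E hEaff hxE hEle using hE
  obtain ⟨t, ht⟩ := V.2.isCompact.elim_finite_subcover
    (fun x : V.1 => ((E x : X.Opens) : Set X)) (fun x => (E x).2)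
    (fun y hy => Set.mem_iUnion.mpr ⟨⟨y, hy⟩, hxE ⟨y, hy⟩⟩)
  let e : Fin t.card ≃ t := t.equivFin.symm
  let pts : Fin t.card → V.1 := fun k => (e k).1
  have hleV : ∀ k, E (pts k) ≤ V.1 := fun k => (hEle (pts k)).trans inf_le_left
  have hleD : ∀ k, E (pts k) ≤ D (pts k).1 := fun k => (hEle (pts k)).trans inf_le_right
  haveI : ∀ k, IsAffine (E (pts k)).toScheme := fun k => hEaff (pts k)
  haveI : ∀ k, IsClosedImmersion (ι (pts k).1) := fun k => hι _
  apply affine_core_openCover (fun k => (E (pts k)).toScheme)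
    (fun k => pullback (ι (pts k).1) (X.homOfLE (hleD k)))
    (fun k => X.homOfLE (hleV k)) ?_ (fun k => pullback.snd _ _) (fun T g' => F (g' ≫ V.1.ι))
    (fun T T' h g hg => by simpa only [Category.assoc] using hF1 h _ hg)
    (fun T g σ O hO h => hF2z _ O hO (fun i => by simpa only [Category.assoc] using h i))
  · intro k T x
    have e1 : (x ≫ X.homOfLE (hleV k)) ≫ V.1.ι = (x ≫ X.homOfLE (hleD k)) ≫ (D (pts k).1).ι := by
      rw [Category.assoc, Category.assoc, Scheme.homOfLE_ι, Scheme.homOfLE_ι]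
    change F ((x ≫ X.homOfLE (hleV k)) ≫ V.1.ι) ↔ _
    rw [e1, hW]
    constructor
    · rintro ⟨w, hw⟩
      exact ⟨pullback.lift w x hw, pullback.lift_snd _ _ _⟩
    · rintro ⟨w, rfl⟩
      exact ⟨w ≫ pullback.fst _ _, by rw [Category.assoc, pullback.condition, Category.assoc]⟩
  · intro y
    have hy : (y.1 : X) ∈ (V.1 : Set X) := y.2
    obtain ⟨x, hx⟩ := Set.mem_iUnion.mp (ht hy)
    obtain ⟨hxt, hyx⟩ := Set.mem_iUnion.mp hx
    refine ⟨e.symm ⟨x, hxt⟩, ?_⟩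
    have hpts : pts (e.symm ⟨x, hxt⟩) = x := by
      change (e (e.symm ⟨x, hxt⟩)).1 = x
      rw [Equiv.apply_symm_apply]
    refine ⟨⟨y.1, by rw [hpts]; exact hyx⟩, ?_⟩
    apply V.1.ι.isOpenEmbedding.injective
    rw [← Scheme.Hom.comp_apply, Scheme.homOfLE_ι]
    rfl

include hF1 hF2z in
/-- variant of `closed_of_zariski_local` with ideals on affine open neighbourhoods. -/
theorem closed_of_ideal_local
    (hloc : ∀ x : X, ∃ (D : X.Opens) (_ : IsAffine D.toScheme), x ∈ D ∧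
      ∃ I : Ideal Γ(D.toScheme, ⊤), ∀ ⦃T : Scheme.{u}⦄ (g' : T ⟶ D.toScheme),
        F (g' ≫ D.ι) ↔ I ≤ RingHom.ker g'.appTop.hom) :
    ∃ (W : Scheme.{u}) (ι : W ⟶ X), IsClosedImmersion ι ∧
      ∀ ⦃T : Scheme.{u}⦄ (g : T ⟶ X), F g ↔ ∃ w : T ⟶ W, w ≫ ι = g := by
  apply closed_of_zariski_local F hF1 hF2z
  intro x
  obtain ⟨D, hD, hx, I, hI⟩ := hloc x
  let ψ : Γ(D.toScheme, ⊤) ⟶ CommRingCat.of (Γ(D.toScheme, ⊤) ⧸ I) :=
    CommRingCat.ofHom (Ideal.Quotient.mk I)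
  have hsurj : Function.Surjective ψ.hom := Ideal.Quotient.mk_surjective
  haveI : IsClosedImmersion (ofRingHom ψ) := isClosedImmersion_ofRingHom ψ hsurj
  refine ⟨D, _, ofRingHom ψ, hx, inferInstance, fun T g => ?_⟩
  rw [hI, factors_iff_of_isAffine, ker_ofRingHom_appTop]
  change _ ↔ RingHom.ker (Ideal.Quotient.mk I) ≤ _
  rw [Ideal.mk_ker]

end

end Groth.Agent.H40.CD
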