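import Groth.Agent.H40.CD.EssProjAffine
import Groth.Agent.H40.CD.LocalGlobal
import Groth.Prelude.Def_SGA3x

/-!
# Weil restriction of a closed subscheme along an essentially free morphism (SGA3 VIII 6.4)
-/

set_option autoImplicit false
set_option backward.isDefEq.respectTransparency.types false
universe u

open CategoryTheory AlgebraicGeometry Limits TopologicalSpace TensorProduct

namespace Groth.Agent.H40.CD

/-- two monomorphisms representing the same subfunctor differ by an isomorphism. -/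
theorem exists_iso_of_repr {X W W' : Scheme.{u}} (F : ∀ ⦃T : Scheme.{u}⦄, (T ⟶ X) → Prop)
    (i : W ⟶ X) (i' : W' ⟶ X) [Mono i] [Mono i']
    (h : ∀ ⦃T : Scheme.{u}⦄ (g : T ⟶ X), F g ↔ ∃ w : T ⟶ W, w ≫ i = g)
    (h' : ∀ ⦃T : Scheme.{u}⦄ (g : T ⟶ X), F g ↔ ∃ w : T ⟶ W', w ≫ i' = g) :
    ∃ e : W ≅ W', e.hom ≫ i' = i := by
  obtain ⟨a, ha⟩ := (h' i).mp ((h i).mpr ⟨𝟙 _, Category.id_comp _⟩)
  obtain ⟨b, hb⟩ := (h i').mp ((h' i').mpr ⟨𝟙 _, Category.id_comp _⟩)
  refine ⟨⟨a, b, ?_, ?_⟩, ha⟩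
  · rw [← cancel_mono i, Category.assoc, hb, ha, Category.id_comp]
  · rw [← cancel_mono i', Category.assoc, ha, hb, Category.id_comp]

section

variable {S Z Y : Scheme.{u}} (f : Z ⟶ S) (j : Y ⟶ Z) [IsClosedImmersion j]

/-- the functor `AllIn f j` over a chart of an essentially free morphism. -/
theorem allIn_chart_iff {U : S.Opens} {S' : Scheme.{u}} (g : S' ⟶ U.toScheme) {T W : Scheme.{u}}
    (t : W ⟶ S) (ht : ∀ ⦃T : Scheme.{u}⦄ (g : T ⟶ S), AllIn f j g ↔ ∃ w : T ⟶ W, w ≫ t = g)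
    (u₁ : T ⟶ S') :
    AllIn (pullback.snd f (g ≫ U.ι)) (pullback.snd j (pullback.fst f (g ≫ U.ι))) u₁ ↔
      ∃ w : T ⟶ pullback g (pullback.snd t U.ι), w ≫ pullback.fst g (pullback.snd t U.ι) = u₁ := by
  rw [allIn_baseChange_iff, ht]
  constructor
  · rintro ⟨w', hw'⟩
    refine ⟨pullback.lift u₁ (pullback.lift w' (u₁ ≫ g) (by rw [hw', Category.assoc])) ?_, ?_⟩
    · rw [pullback.lift_snd]
    · rw [pullback.lift_fst]
  · rintro ⟨w, rfl⟩
    refine ⟨w ≫ pullback.snd g (pullback.snd t U.ι) ≫ pullback.fst t U.ι, ?_⟩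
    rw [Category.assoc, Category.assoc, pullback.condition, ← Category.assoc (pullback.snd g _),
      ← pullback.condition, Category.assoc, Category.assoc]

variable (hf : SGA3x.IsEssentiallyFree f)

include hf in
/-- **SGA3 VIII 6.4** the Weil restriction of a closed subscheme along an essentially free
morphism is a closed subscheme. -/
theorem exists_closed_allIn_of_isEssentiallyFree :
    ∃ (W : Scheme.{u}) (t : W ⟶ S), IsClosedImmersion t ∧
      ∀ ⦃T : Scheme.{u}⦄ (g : T ⟶ S), AllIn f j g ↔ ∃ w : T ⟶ W, w ≫ t = g := by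
  apply closed_of_ideal_local (fun T g => AllIn f j g) (fun T T' h g hg => hg.precomp f j h)
    (fun T g σ O hO h => allIn_zariski_local f j g O hO h)
  intro s
  obtain ⟨U, hsU, hU, S', hS', g, hgflat, hgsurj, hV⟩ := hf s
  haveI : IsAffine U.toScheme := hU
  refine ⟨U, hU, hsU, ?_⟩
  choose O hxO hOaff hOproj using hV
  obtain ⟨W₁, ι₁, hι₁, hW₁, -⟩ := exists_closed_allIn_of_affine_proj (pullback.snd f (g ≫ U.ι))
    (pullback.snd j (pullback.fst f (g ≫ U.ι))) O hOaff hOproj (fun z => ⟨z, hxO z⟩)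
  refine affine_core' g (fun T g' => AllIn f j (g' ≫ U.ι)) ?_ ?_ ι₁ ?_
  · intro T T' h g' hg'
    change AllIn f j ((h ≫ g') ≫ U.ι)
    rw [Category.assoc]
    exact AllIn.precomp f j h hg'
  · intro T g' hg'
    change AllIn f j ((pullback.fst g' g ≫ g') ≫ U.ι) at hg'
    rw [Category.assoc] at hg'
    exact allIn_of_flat_surjective f j (pullback.fst g' g) (g' ≫ U.ι) hg'
  · intro T u₁
    change AllIn f j ((u₁ ≫ g) ≫ U.ι) ↔ _
    rw [Category.assoc, ← allIn_baseChange_iff, hW₁]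

include hf in
/-- the finite presentation clause of SGA3 VIII 6.4. -/
theorem locallyOfFinitePresentation_of_isEssentiallyFree [QuasiCompact f]
    [LocallyOfFinitePresentation j] {W : Scheme.{u}} (t : W ⟶ S) [IsClosedImmersion t]
    (ht : ∀ ⦃T : Scheme.{u}⦄ (g : T ⟶ S), AllIn f j g ↔ ∃ w : T ⟶ W, w ≫ t = g) :
    LocallyOfFinitePresentation t := by
  apply IsZariskiLocalAtTarget.of_forall_exists_morphismRestrict
    (P := @LocallyOfFinitePresentation)
  intro s
  obtain ⟨U, hsU, hU, S', hS', g, hgflat, hgsurj, hV⟩ := hf s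
  haveI : IsAffine U.toScheme := hU
  refine ⟨U, hsU, ?_⟩
  choose O hxO hOaff hOproj using hV
  haveI : CompactSpace ↥(pullback f (g ≫ U.ι)) :=
    QuasiCompact.compactSpace_of_compactSpace (pullback.snd f (g ≫ U.ι))
  have hcov : (Set.univ : Set ↥(pullback f (g ≫ U.ι))) ⊆
      ⋃ x : ↥(pullback f (g ≫ U.ι)), (SetLike.coe (O x) : Set ↥(pullback f (g ≫ U.ι))) :=
    fun y _ => Set.mem_iUnion.mpr ⟨y, hxO y⟩
  obtain ⟨F, hF⟩ := isCompact_univ.elim_finite_subcover
    (fun x : ↥(pullback f (g ≫ U.ι)) => (SetLike.coe (O x) : Set ↥(pullback f (g ≫ U.ι))))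
    (fun x => (O x).2) hcov
  obtain ⟨W₁, ι₁, hι₁, hW₁, hfp⟩ := exists_closed_allIn_of_affine_proj (pullback.snd f (g ≫ U.ι))
    (pullback.snd j (pullback.fst f (g ≫ U.ι))) (fun x : ↥F => O x.1) (fun x => hOaff x.1)
    (fun x => hOproj x.1) (fun z => by
      obtain ⟨x, hx⟩ := Set.mem_iUnion.mp (hF (Set.mem_univ z))
      obtain ⟨hxF, hzx⟩ := Set.mem_iUnion.mp hx
      exact ⟨⟨x, hxF⟩, hzx⟩)
  have : LocallyOfFinitePresentation ι₁ := hfp inferInstance inferInstance
  -- compare with the base change of `t`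
  obtain ⟨e, he⟩ := exists_iso_of_repr
    (fun T u₁ => AllIn (pullback.snd f (g ≫ U.ι)) (pullback.snd j (pullback.fst f (g ≫ U.ι))) u₁)
    (pullback.fst g (pullback.snd t U.ι)) ι₁ (fun T u₁ => allIn_chart_iff f j g t ht u₁) hW₁
  have h1 : LocallyOfFinitePresentation (pullback.fst g (pullback.snd t U.ι)) := by
    rw [← he]
    infer_instance
  have h2 : LocallyOfFinitePresentation (pullback.snd t U.ι) :=
    MorphismProperty.of_pullback_fst_of_descendsAlong (P := @LocallyOfFinitePresentation)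
      (Q := @Surjective ⊓ @Flat ⊓ @QuasiCompact) (f := g) ⟨⟨hgsurj, hgflat⟩, inferInstance⟩ h1
  rw [← pullbackRestrictIsoRestrict_hom_morphismRestrict t U] at h2
  exact (MorphismProperty.cancel_left_of_respectsIso (P := @LocallyOfFinitePresentation)
    (pullbackRestrictIsoRestrict t U).hom (t ∣_ U)).mp h2

end

end Groth.Agent.H40.CD
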