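import Mathlib.AlgebraicGeometry.Morphisms.ClosedImmersion
import Mathlib.AlgebraicGeometry.IdealSheaf.Subscheme

/-!
# Morphisms into affine schemes and closed immersions
-/

set_option autoImplicit false
set_option backward.isDefEq.respectTransparency.types false
universe u

open CategoryTheory AlgebraicGeometry

namespace Groth.Agent.H40.CD

/-- factorisation through a closed immersion into an affine scheme is detected on global
sections. -/
theorem factors_iff_of_isAffine {Y Z T : Scheme.{u}} [IsAffine Y] (j : Z ⟶ Y)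
    [IsClosedImmersion j] (g : T ⟶ Y) :
    (∃ w : T ⟶ Z, w ≫ j = g) ↔ RingHom.ker j.appTop.hom ≤ RingHom.ker g.appTop.hom := by
  constructor
  · rintro ⟨w, rfl⟩
    intro x hx
    rw [RingHom.mem_ker] at hx ⊢
    rw [Scheme.Hom.comp_appTop, CommRingCat.hom_comp, RingHom.comp_apply, hx, map_zero]
  · intro h
    refine ⟨IsClosedImmersion.lift j g ?_, IsClosedImmersion.lift_fac _ _ _⟩
    rw [Scheme.ker_of_isAffine, Scheme.ker_of_isAffine]
    intro U
    simp only [Scheme.IdealSheafData.ofIdealTop_ideal]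
    exact Ideal.map_mono h

/-- the morphism `Spec R ⟶ Y` to an affine scheme attached to a ring map. -/
noncomputable def ofRingHom {Y : Scheme.{u}} [IsAffine Y] {R : CommRingCat.{u}}
    (ψ : Γ(Y, ⊤) ⟶ R) : Spec R ⟶ Y :=
  Spec.map ψ ≫ Y.isoSpec.inv

theorem isoSpec_inv_appTop (Y : Scheme.{u}) [IsAffine Y] :
    Y.isoSpec.inv.appTop = (Scheme.ΓSpecIso Γ(Y, ⊤)).inv := by
  have h1 : Y.isoSpec.hom.appTop = (Scheme.ΓSpecIso Γ(Y, ⊤)).hom := Scheme.toSpecΓ_appTop Y
  have h2 : Y.isoSpec.inv.appTop ≫ Y.isoSpec.hom.appTop = 𝟙 _ := by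
    rw [← Scheme.Hom.comp_appTop, Iso.hom_inv_id, Scheme.Hom.id_appTop]
  rw [h1] at h2
  rw [← cancel_mono (Scheme.ΓSpecIso Γ(Y, ⊤)).hom, h2, Iso.inv_hom_id]

theorem ofRingHom_appTop {Y : Scheme.{u}} [IsAffine Y] {R : CommRingCat.{u}}
    (ψ : Γ(Y, ⊤) ⟶ R) : (ofRingHom ψ).appTop = ψ ≫ (Scheme.ΓSpecIso R).inv := by
  rw [ofRingHom, Scheme.Hom.comp_appTop, isoSpec_inv_appTop, Scheme.ΓSpecIso_inv_naturality]

theorem ker_ofRingHom_appTop {Y : Scheme.{u}} [IsAffine Y] {R : CommRingCat.{u}}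
    (ψ : Γ(Y, ⊤) ⟶ R) : RingHom.ker (ofRingHom ψ).appTop.hom = RingHom.ker ψ.hom := by
  rw [ofRingHom_appTop]
  ext x
  simp only [RingHom.mem_ker, CommRingCat.hom_comp, RingHom.comp_apply]
  have hinj : Function.Injective (Scheme.ΓSpecIso R).inv.hom :=
    (ConcreteCategory.bijective_of_isIso (Scheme.ΓSpecIso R).inv).1
  constructor
  · intro h
    exact hinj (h.trans (map_zero _).symm)
  · intro h
    rw [h, map_zero]

theorem ofRingHom_comp {Y Y' : Scheme.{u}} [IsAffine Y] [IsAffine Y'] {R : CommRingCat.{u}}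
    (ψ : Γ(Y, ⊤) ⟶ R) (h : Y ⟶ Y') : ofRingHom ψ ≫ h = ofRingHom (h.appTop ≫ ψ) := by
  apply ext_of_isAffine
  rw [Scheme.Hom.comp_appTop, ofRingHom_appTop, ofRingHom_appTop, Category.assoc]

end Groth.Agent.H40.CD
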