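import Mathlib.AlgebraicGeometry.Morphisms.Flat

/-!
# Sections are detected on jointly surjective flat families
-/

set_option autoImplicit false
set_option backward.isDefEq.respectTransparency.types false
universe u

open CategoryTheory AlgebraicGeometry TopologicalSpace

namespace Groth.Agent.H40.CD

theorem stalkMap_injective_of_flat {X Y : Scheme.{u}} (f : X ⟶ Y) [Flat f] (x : X) :
    Function.Injective (f.stalkMap x).hom := by
  algebraize [(f.stalkMap x).hom]
  have : Module.FaithfullyFlat (Y.presheaf.stalk (f x)) (X.presheaf.stalk x) :=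
    @Module.FaithfullyFlat.of_flat_of_isLocalHom _ _ _ _ _ _ _
      (Flat.stalkMap f x) (f.toLRSHom.prop x)
  exact ‹RingHom.FaithfullyFlat _›.injective

/-- a section vanishing after pull-back along a jointly surjective flat family vanishes. -/
theorem eq_zero_of_app_eq_zero {T : Scheme.{u}} {ι : Type*} {T' : ι → Scheme.{u}}
    (π : ∀ a, T' a ⟶ T) [∀ a, Flat (π a)]
    (hsurj : ∀ t : T, ∃ (a : ι) (t' : T' a), (π a) t' = t) (V : T.Opens) (s : Γ(T, V))
    (hs : ∀ a, (π a).app V s = 0) : s = 0 := by
  apply TopCat.Presheaf.section_ext T.sheaf V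
  intro t ht
  obtain ⟨a, t', rfl⟩ := hsurj t
  apply stalkMap_injective_of_flat (π a) t'
  change (π a).stalkMap t' (T.presheaf.germ V ((π a) t') ht s) =
    (π a).stalkMap t' (T.presheaf.germ V ((π a) t') ht 0)
  rw [Scheme.Hom.germ_stalkMap_apply, Scheme.Hom.germ_stalkMap_apply, hs a, map_zero, map_zero,
    map_zero]

theorem eq_zero_of_app_eq_zero_single {T T' : Scheme.{u}} (π : T' ⟶ T) [Flat π] [Surjective π]
    (V : T.Opens) (s : Γ(T, V)) (hs : π.app V s = 0) : s = 0 :=
  eq_zero_of_app_eq_zero (ι := Unit) (fun _ => π) (fun t => ⟨(), π.surjective t⟩) V s fun _ => hs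

end Groth.Agent.H40.CD
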