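import Groth.Agent.H40.CD.Alg
import Groth.Agent.H40.CD.SecInj
import Groth.Agent.H40.CD.AffHom
import Mathlib.AlgebraicGeometry.Morphisms.UnderlyingMap

/-!
# Descent of closed subfunctors along a flat surjective map of affine schemes
-/

set_option autoImplicit false
set_option backward.isDefEq.respectTransparency.types false
universe u

open CategoryTheory AlgebraicGeometry Limits TensorProduct

namespace Groth.Agent.H40.CD

section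

variable {V U₁ W₁ : Scheme.{u}} [IsAffine V] [IsAffine U₁] (p : U₁ ⟶ V) [Flat p] [Surjective p]
  (F : ∀ ⦃T : Scheme.{u}⦄, (T ⟶ V) → Prop)
  (hF1 : ∀ ⦃T T' : Scheme.{u}⦄ (h : T' ⟶ T) (g : T ⟶ V), F g → F (h ≫ g))
  (hF2 : ∀ ⦃T T' : Scheme.{u}⦄ (π : T' ⟶ T) [Flat π] [Surjective π] (g : T ⟶ V),
    F (π ≫ g) → F g)
  (j : W₁ ⟶ U₁) [IsClosedImmersion j]
  (hF3 : ∀ ⦃T : Scheme.{u}⦄ (u₁ : T ⟶ U₁), F (u₁ ≫ p) ↔ ∃ w : T ⟶ W₁, w ≫ j = u₁)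

include hF3 in
theorem descent_datum [Algebra Γ(V, ⊤) Γ(U₁, ⊤)]
    (halg : algebraMap Γ(V, ⊤) Γ(U₁, ⊤) = p.appTop.hom) :
    (RingHom.ker j.appTop.hom).map
      (Algebra.TensorProduct.includeLeft : Γ(U₁, ⊤) →ₐ[Γ(V, ⊤)] Γ(U₁, ⊤) ⊗[Γ(V, ⊤)] Γ(U₁, ⊤)) ≤
    (RingHom.ker j.appTop.hom).map
      (Algebra.TensorProduct.includeRight :
        Γ(U₁, ⊤) →ₐ[Γ(V, ⊤)] Γ(U₁, ⊤) ⊗[Γ(V, ⊤)] Γ(U₁, ⊤)) := by
  set K := (RingHom.ker j.appTop.hom).map (Algebra.TensorProduct.includeRight :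
        Γ(U₁, ⊤) →ₐ[Γ(V, ⊤)] Γ(U₁, ⊤) ⊗[Γ(V, ⊤)] Γ(U₁, ⊤)) with hK
  let ψ₁ : Γ(U₁, ⊤) →+* (Γ(U₁, ⊤) ⊗[Γ(V, ⊤)] Γ(U₁, ⊤)) ⧸ K :=
    (Ideal.Quotient.mk K).comp (Algebra.TensorProduct.includeLeft :
        Γ(U₁, ⊤) →ₐ[Γ(V, ⊤)] Γ(U₁, ⊤) ⊗[Γ(V, ⊤)] Γ(U₁, ⊤)).toRingHom
  let ψ₂ : Γ(U₁, ⊤) →+* (Γ(U₁, ⊤) ⊗[Γ(V, ⊤)] Γ(U₁, ⊤)) ⧸ K :=
    (Ideal.Quotient.mk K).comp (Algebra.TensorProduct.includeRight :
        Γ(U₁, ⊤) →ₐ[Γ(V, ⊤)] Γ(U₁, ⊤) ⊗[Γ(V, ⊤)] Γ(U₁, ⊤)).toRingHom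
  let r₁ : Spec (CommRingCat.of ((Γ(U₁, ⊤) ⊗[Γ(V, ⊤)] Γ(U₁, ⊤)) ⧸ K)) ⟶ U₁ :=
    ofRingHom (CommRingCat.ofHom ψ₁)
  let r₂ : Spec (CommRingCat.of ((Γ(U₁, ⊤) ⊗[Γ(V, ⊤)] Γ(U₁, ⊤)) ⧸ K)) ⟶ U₁ :=
    ofRingHom (CommRingCat.ofHom ψ₂)
  have hr : r₁ ≫ p = r₂ ≫ p := by
    rw [ofRingHom_comp, ofRingHom_comp]
    congr 1
    ext a
    rw [CommRingCat.hom_comp, CommRingCat.hom_comp, RingHom.comp_apply, RingHom.comp_apply,
      ← halg]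
    change Ideal.Quotient.mk K (Algebra.TensorProduct.includeLeft (algebraMap _ _ a)) =
      Ideal.Quotient.mk K (Algebra.TensorProduct.includeRight (algebraMap _ _ a))
    congr 1
    exact ((Algebra.TensorProduct.includeLeft :
        Γ(U₁, ⊤) →ₐ[Γ(V, ⊤)] Γ(U₁, ⊤) ⊗[Γ(V, ⊤)] Γ(U₁, ⊤)).commutes a).trans
      ((Algebra.TensorProduct.includeRight :
        Γ(U₁, ⊤) →ₐ[Γ(V, ⊤)] Γ(U₁, ⊤) ⊗[Γ(V, ⊤)] Γ(U₁, ⊤)).commutes a).symm
  have h2 : ∃ w, w ≫ j = r₂ := by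
    rw [factors_iff_of_isAffine, ker_ofRingHom_appTop]
    intro x hx
    rw [RingHom.mem_ker]
    change Ideal.Quotient.mk K (Algebra.TensorProduct.includeRight x) = 0
    rw [Ideal.Quotient.eq_zero_iff_mem]
    exact Ideal.mem_map_of_mem _ hx
  have h1 : ∃ w, w ≫ j = r₁ := by
    rw [← hF3, hr, hF3]
    exact h2
  rw [factors_iff_of_isAffine, ker_ofRingHom_appTop] at h1
  rw [Ideal.map_le_iff_le_comap]
  intro x hx
  have := h1 hx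
  rw [RingHom.mem_ker] at this
  change Ideal.Quotient.mk K (Algebra.TensorProduct.includeLeft x) = 0 at this
  rw [Ideal.Quotient.eq_zero_iff_mem] at this
  exact Ideal.mem_comap.mpr this

include hF1 hF2 hF3 in
theorem affine_core_aux [Algebra Γ(V, ⊤) Γ(U₁, ⊤)]
    (halg : algebraMap Γ(V, ⊤) Γ(U₁, ⊤) = p.appTop.hom) (hflat : Module.Flat Γ(V, ⊤) Γ(U₁, ⊤)) :
    ∃ I : Ideal Γ(V, ⊤), ∀ ⦃T : Scheme.{u}⦄ (g : T ⟶ V),
      F g ↔ I ≤ RingHom.ker g.appTop.hom := by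
  set J := RingHom.ker j.appTop.hom with hJ
  have hdd := descent_datum p F j hF3 halg
  have hJle := le_map_comap_of_descent J hdd
  rw [halg] at hJle
  refine ⟨J.comap p.appTop.hom, fun T g => ?_⟩
  have hcond : pullback.fst g p ≫ g = pullback.snd g p ≫ p := pullback.condition
  have happ : ∀ a : Γ(V, ⊤), (pullback.fst g p).appTop.hom (g.appTop.hom a) =
      (pullback.snd g p).appTop.hom (p.appTop.hom a) := by
    intro a
    have := congrArg (fun h => (Scheme.Hom.appTop h).hom a) hcond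
    simpa only [Scheme.Hom.comp_appTop, CommRingCat.hom_comp, RingHom.comp_apply] using this
  constructor
  · intro hg a ha
    have h1 : F (pullback.snd g p ≫ p) := by
      rw [← hcond]; exact hF1 _ _ hg
    rw [hF3, factors_iff_of_isAffine] at h1
    have h2 : (pullback.snd g p).appTop.hom (p.appTop.hom a) = 0 := h1 ha
    rw [← happ] at h2
    rw [RingHom.mem_ker]
    exact eq_zero_of_app_eq_zero_single (pullback.fst g p) ⊤ _ h2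
  · intro hI
    apply hF2 (pullback.fst g p)
    rw [hcond, hF3, factors_iff_of_isAffine]
    refine hJle.trans ?_
    rw [Ideal.map_le_iff_le_comap]
    intro a ha
    rw [Ideal.mem_comap, RingHom.mem_ker]
    change (pullback.snd g p).appTop.hom (p.appTop.hom a) = 0
    rw [← happ]
    have := hI ha
    rw [RingHom.mem_ker] at this
    rw [this, map_zero]

include hF1 hF2 hF3 in
/-- **Affine core of closed descent.** -/
theorem affine_core :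
    ∃ I : Ideal Γ(V, ⊤), ∀ ⦃T : Scheme.{u}⦄ (g : T ⟶ V),
      F g ↔ I ≤ RingHom.ker g.appTop.hom := by
  letI : Algebra Γ(V, ⊤) Γ(U₁, ⊤) := p.appTop.hom.toAlgebra
  have hflat : Module.Flat Γ(V, ⊤) Γ(U₁, ⊤) :=
    (HasRingHomProperty.iff_of_isAffine (P := @Flat) (f := p)).mp inferInstance
  exact affine_core_aux p F hF1 hF2 j hF3 rfl hflat

end

end Groth.Agent.H40.CD
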