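import Mathlib.Algebra.Category.Ring.Constructions
import Mathlib.RingTheory.TensorProduct.IsBaseChangeFree
import Mathlib.RingTheory.IsTensorProduct
import Mathlib.LinearAlgebra.FreeModule.Basic
import Mathlib.LinearAlgebra.Dimension.Free
import Mathlib.LinearAlgebra.Basis.VectorSpace

/-!
# Freeness along pushouts of commutative rings
-/

set_option autoImplicit false
universe u

open CategoryTheory Limits

namespace Groth.Agent.H40.CD

/-- in a pushout square of commutative rings, freeness is preserved by base change. -/
theorem free_of_isPushout {R₀ A B C : CommRingCat.{u}} (f : R₀ ⟶ B) (g : R₀ ⟶ A) (inl : B ⟶ C)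
    (inr : A ⟶ C) (h : IsPushout f g inl inr)
    (hfree : @Module.Free R₀ B _ _ f.hom.toAlgebra.toModule) :
    @Module.Free A C _ _ inr.hom.toAlgebra.toModule := by
  letI : Algebra R₀ B := f.hom.toAlgebra
  letI : Algebra R₀ A := g.hom.toAlgebra
  letI : Algebra B C := inl.hom.toAlgebra
  letI : Algebra A C := inr.hom.toAlgebra
  letI : Algebra R₀ C := (inr.hom.comp g.hom).toAlgebra
  haveI : IsScalarTower R₀ A C := IsScalarTower.of_algebraMap_eq' rfl
  haveI : IsScalarTower R₀ B C := IsScalarTower.of_algebraMap_eq' (by
    change inr.hom.comp g.hom = inl.hom.comp f.hom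
    rw [← CommRingCat.hom_comp, ← CommRingCat.hom_comp, h.w])
  have hp : IsPushout (CommRingCat.ofHom (algebraMap R₀ A)) (CommRingCat.ofHom (algebraMap R₀ B))
      (CommRingCat.ofHom (algebraMap A C)) (CommRingCat.ofHom (algebraMap B C)) := h.flip
  have hP : Algebra.IsPushout R₀ A B C := (CommRingCat.isPushout_iff_isPushout).mp hp
  exact hP.out.free

/-- every module over a ring isomorphic to a field is free. -/
theorem free_of_ringEquiv_field {k : Type u} [Field k] {R₀ M : Type u} [CommRing R₀]
    [AddCommGroup M] [Module R₀ M] (e : k ≃+* R₀) : Module.Free R₀ M := by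
  letI : Module k M := Module.compHom M (e : k →+* R₀)
  let b := Module.Free.chooseBasis k M
  exact Module.Free.of_basis (b.mapCoeffs e (fun c x => rfl))

end Groth.Agent.H40.CD
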