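import Mathlib.Algebra.Category.Ring.Basic
import Mathlib.LinearAlgebra.FreeModule.Basic

/-!
# Transport of freeness along isomorphisms of rings
-/

set_option autoImplicit false
universe u

open CategoryTheory

namespace Groth.Agent.H40.CD

/-- freeness of `B` over `A` along `f` is invariant under pre- and post-composition with
isomorphisms. -/
theorem free_of_iso_comp {A B A' B' : CommRingCat.{u}} (f : A ⟶ B) (eA : A' ≅ A) (eB : B ≅ B')
    (hfree : @Module.Free A B _ _ f.hom.toAlgebra.toModule) :
    @Module.Free A' B' _ _ (eA.hom ≫ f ≫ eB.hom).hom.toAlgebra.toModule := by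
  letI : Algebra A B := f.hom.toAlgebra
  letI : Algebra A' B' := (eA.hom ≫ f ≫ eB.hom).hom.toAlgebra
  let σ : A ≃+* A' := eA.commRingCatIsoToRingEquiv.symm
  have hσ : ∀ a : A, eA.hom.hom (σ a) = a := by
    intro a
    change eA.hom.hom (eA.inv.hom a) = a
    rw [← RingHom.comp_apply, ← CommRingCat.hom_comp, Iso.inv_hom_id]
    rfl
  haveI : RingHomInvPair (σ : A →+* A') (σ.symm : A' →+* A) := RingHomInvPair.of_ringEquiv σ
  haveI : RingHomInvPair (σ.symm : A' →+* A) (σ : A →+* A') :=
    RingHomInvPair.symm (σ : A →+* A') (σ.symm : A' →+* A)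
  let e₂ : B ≃ₛₗ[(σ : A →+* A')] B' :=
    { toFun := eB.hom.hom
      invFun := eB.inv.hom
      map_add' := map_add _
      map_smul' := by
        intro a b
        change eB.hom.hom (f.hom a * b) = (eA.hom ≫ f ≫ eB.hom).hom (σ a) * eB.hom.hom b
        rw [map_mul, CommRingCat.hom_comp, CommRingCat.hom_comp, RingHom.comp_apply,
          RingHom.comp_apply, hσ]
      left_inv := by
        intro b
        change eB.inv.hom (eB.hom.hom b) = b
        rw [← RingHom.comp_apply, ← CommRingCat.hom_comp, Iso.hom_inv_id]
        rfl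
      right_inv := by
        intro b
        change eB.hom.hom (eB.inv.hom b) = b
        rw [← RingHom.comp_apply, ← CommRingCat.hom_comp, Iso.inv_hom_id]
        rfl }
  exact Module.Free.of_equiv e₂

end Groth.Agent.H40.CD
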