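import Groth.Agent.H40.CD.EssFree
import Groth.Agent.H40.CD.FreePushout
import Groth.Agent.H40.CD.FreeTransport
import Groth.Agent.H40.CD.LocalGlobal
import Mathlib.AlgebraicGeometry.Morphisms.Affine
import Mathlib.AlgebraicGeometry.PullbackCarrier

/-!
# Affine morphisms with free coordinate ring are essentially free after base change
-/

set_option autoImplicit false
set_option backward.isDefEq.respectTransparency.types false
universe u

open CategoryTheory AlgebraicGeometry Limits TopologicalSpace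

namespace Groth.Agent.H40.CD

theorem essFreeAt_pullback_snd_of_free {S G₀ Y₀ : Scheme.{u}} (fg : G₀ ⟶ S) (fy : Y₀ ⟶ S)
    [IsAffineHom fg] (U : S.Opens) (hU : IsAffineOpen U)
    (hfree : @Module.Free Γ(S, U) Γ(G₀, fg ⁻¹ᵁ U) _ _ (fg.app U).hom.toAlgebra.toModule)
    (V : Y₀.Opens) [IsAffine V.toScheme] (hVU : V ≤ fy ⁻¹ᵁ U) :
    EssFreeAt (pullback.snd fg fy) V := by
  haveI : IsAffine U.toScheme := hU
  haveI : IsAffine (fg ⁻¹ᵁ U).toScheme := hU.preimage fg
  let fgU : (fg ⁻¹ᵁ U).toScheme ⟶ U.toScheme := fg.resLE U (fg ⁻¹ᵁ U) le_rfl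
  let fyV : V.toScheme ⟶ U.toScheme := fy.resLE U V hVU
  have hfree' : @Module.Free Γ(U.toScheme, ⊤) Γ((fg ⁻¹ᵁ U).toScheme, ⊤) _ _
      fgU.appTop.hom.toAlgebra.toModule := by
    have e : fgU.appTop = U.topIso.hom ≫ fg.app U ≫ (fg ⁻¹ᵁ U).topIso.inv := by
      change (fg.resLE U (fg ⁻¹ᵁ U) le_rfl).app ⊤ = _
      rw [Scheme.Hom.resLE_app_top, Scheme.Hom.appLE_eq_app]
    rw [e]
    exact free_of_iso_comp (fg.app U) U.topIso (fg ⁻¹ᵁ U).topIso.symm hfree
  refine ⟨PUnit, fun _ => Γ(pullback fgU fyV, ⊤), fun _ => (pullback.snd fgU fyV).appTop,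
    fun _ => (pullback fgU fyV).isoSpec.inv ≫
      pullback.map fgU fyV fg fy (fg ⁻¹ᵁ U).ι V.ι U.ι (Scheme.Hom.resLE_comp_ι _ _)
        (Scheme.Hom.resLE_comp_ι _ _),
    fun _ => inferInstance, fun _ => ?_, fun _ => ?_, fun z hz => ?_⟩
  · exact free_of_isPushout fgU.appTop fyV.appTop (pullback.fst fgU fyV).appTop
      (pullback.snd fgU fyV).appTop
      (isPushout_appTop_of_isPullback (IsPullback.of_hasPullback _ _)) hfree'
  · rw [Category.assoc, pullback.lift_snd, ← Category.assoc, ← Scheme.isoSpec_inv_naturality]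
    rfl
  · refine ⟨PUnit.unit, ?_⟩
    have hz' : z ∈ Set.range (pullback.map fgU fyV fg fy (fg ⁻¹ᵁ U).ι V.ι U.ι
        (Scheme.Hom.resLE_comp_ι _ _) (Scheme.Hom.resLE_comp_ι _ _)) := by
      rw [Scheme.Pullback.range_map]
      refine ⟨?_, ?_⟩
      · rw [Set.mem_preimage, Scheme.Opens.range_ι]
        change fg (pullback.fst fg fy z) ∈ U
        rw [← Scheme.Hom.comp_apply, pullback.condition, Scheme.Hom.comp_apply]
        exact hVU hz
      · rw [Set.mem_preimage, Scheme.Opens.range_ι]; exact hz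
    obtain ⟨w, rfl⟩ := hz'
    obtain ⟨w', rfl⟩ := (pullback fgU fyV).isoSpec.inv.surjective w
    exact ⟨w', by rw [Scheme.Hom.comp_apply]⟩

end Groth.Agent.H40.CD
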