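import Mathlib.RingTheory.TensorProduct.Quotient
import Mathlib.RingTheory.Flat.Basic
import Mathlib.LinearAlgebra.TensorProduct.RightExactness
import Mathlib.RingTheory.Ideal.Quotient.Operations

/-!
# Descent of ideals along flat ring maps
-/

set_option autoImplicit false
universe u

open TensorProduct

namespace Groth.Agent.H40.CD

/-- an ideal with a descent datum along a flat ring map is generated by its contraction. -/
theorem le_map_comap_of_descent {A B : Type u} [CommRing A] [CommRing B] [Algebra A B]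
    [Module.Flat A B] (J : Ideal B)
    (h : J.map (Algebra.TensorProduct.includeLeft : B →ₐ[A] B ⊗[A] B) ≤
      J.map (Algebra.TensorProduct.includeRight : B →ₐ[A] B ⊗[A] B)) :
    J ≤ (J.comap (algebraMap A B)).map (algebraMap A B) := by
  intro x hx
  set I := J.comap (algebraMap A B) with hI
  let ψ : A ⧸ I →ₐ[A] B ⧸ J := Ideal.quotientMapₐ J (Algebra.ofId A B) le_rfl
  have hψ : Function.Injective ψ :=
    Ideal.quotientMap_injective' (I := J) (J := I) (f := (Algebra.ofId A B : A →+* B))
      (H := le_rfl) le_rfl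
  have hinj := Module.Flat.lTensor_preserves_injective_linearMap (M := B) ψ.toLinearMap hψ
  have hk : x ⊗ₜ[A] (1 : B) ∈ RingHom.ker
      (Algebra.TensorProduct.map (AlgHom.id A B) (Ideal.Quotient.mkₐ A J)) := by
    rw [Algebra.TensorProduct.lTensor_ker _ (Ideal.Quotient.mkₐ_surjective A J)]
    have hker : RingHom.ker (Ideal.Quotient.mkₐ A J) = J := Ideal.Quotient.mkₐ_ker A J
    rw [hker]
    exact h (Ideal.mem_map_of_mem _ hx)
  have h0 : (ψ.toLinearMap.lTensor B) (x ⊗ₜ[A] (1 : A ⧸ I)) = 0 := by
    rw [LinearMap.lTensor_tmul]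
    have : ψ.toLinearMap (1 : A ⧸ I) = (Ideal.Quotient.mkₐ A J) (1 : B) := by
      simp
    rw [this]
    exact hk
  have h1 : x ⊗ₜ[A] (1 : A ⧸ I) = 0 := hinj (h0.trans (map_zero _).symm)
  have h2 := congrArg (Algebra.TensorProduct.quotIdealMapEquivTensorQuot B I).symm h1
  rw [← Algebra.TensorProduct.quotIdealMapEquivTensorQuot_mk, AlgEquiv.symm_apply_apply,
    map_zero] at h2
  exact Ideal.Quotient.eq_zero_iff_mem.mp h2

end Groth.Agent.H40.CD
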