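import Mathlib.AlgebraicGeometry.Morphisms.Flat
import Mathlib.AlgebraicGeometry.Morphisms.UnderlyingMap
import Mathlib.AlgebraicGeometry.Limits

/-!
# Affine flat surjective atlases over affine opens
-/

set_option autoImplicit false
set_option backward.isDefEq.respectTransparency.types false
universe u

open CategoryTheory AlgebraicGeometry Limits

namespace Groth.Agent.H40.CD

/-- over an affine open `V` of `X`, an open flat surjective `f : U ⟶ X` can be refined by an
affine scheme that is flat and surjective over `V`. -/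
theorem exists_affine_atlas {X U : Scheme.{u}} (f : U ⟶ X) [Flat f] [Surjective f]
    (hopen : IsOpenMap f) (V : X.Opens) (hV : IsAffineOpen V) :
    ∃ (U₁ : Scheme.{u}) (_ : IsAffine U₁) (p : U₁ ⟶ V.toScheme) (q : U₁ ⟶ U),
      Flat p ∧ Surjective p ∧ q ≫ f = p ≫ V.ι := by
  classical
  have hex : ∀ x : X, ∃ u : U, f u = x := fun x => f.surjective x
  choose u hu using hex
  have hO : ∀ x : V, ∃ O : U.Opens, IsAffineOpen O ∧ u x.1 ∈ O ∧ O.1 ⊆ f ⁻¹ᵁ V := by
    intro x
    apply exists_isAffineOpen_mem_and_subset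
    change f (u x.1) ∈ V
    rw [hu]; exact x.2
  choose O hOaff hOmem hOsub using hO
  have hcov : (V : Set X) ⊆ ⋃ x : V, f '' (O x : Set U) := by
    intro y hy
    exact Set.mem_iUnion.mpr ⟨⟨y, hy⟩, u y, hOmem ⟨y, hy⟩, hu y⟩
  obtain ⟨t, ht⟩ := hV.isCompact.elim_finite_subcover (fun x : V => f '' (O x : Set U))
    (fun x => hopen _ (O x).2) hcov
  haveI : ∀ i : t, IsAffine ((fun i : t => (O i.1).toScheme) i) := fun i => hOaff i.1
  let q : (∐ fun i : t => (O i.1).toScheme) ⟶ U := Sigma.desc fun i : t => (O i.1).ι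
  have hrange : Set.range (q ≫ f) ⊆ Set.range V.ι := by
    rintro _ ⟨z, rfl⟩
    obtain ⟨⟨i, x⟩, rfl⟩ := (sigmaMk fun i : t => (O i.1).toScheme).surjective z
    rw [sigmaMk_mk, ← Scheme.Hom.comp_apply, Sigma.ι_desc_assoc, Scheme.Opens.range_ι]
    exact hOsub i.1 x.2
  refine ⟨∐ fun i : t => (O i.1).toScheme, inferInstance, IsOpenImmersion.lift V.ι (q ≫ f) hrange,
    q, ?_, ?_, (IsOpenImmersion.lift_fac _ _ _).symm⟩
  · apply MorphismProperty.of_postcomp (W := @Flat) (W' := @IsOpenImmersion) _ V.ι inferInstance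
    rw [IsOpenImmersion.lift_fac]
    infer_instance
  · refine ⟨fun y => ?_⟩
    obtain ⟨x, hxt, w, hw, hwy⟩ := Set.mem_iUnion₂.mp (ht y.2)
    refine ⟨Sigma.ι (fun i : t => (O i.1).toScheme) ⟨x, hxt⟩ ⟨w, hw⟩, ?_⟩
    apply V.ι.isOpenEmbedding.injective
    rw [← Scheme.Hom.comp_apply, IsOpenImmersion.lift_fac, ← Scheme.Hom.comp_apply,
      Sigma.ι_desc_assoc]
    exact hwy

end Groth.Agent.H40.CD
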