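import Groth.Agent.H40.CD.EssFreeMain

/-!
# Representability by a closed subscheme from finite families of flat affine charts
-/

set_option autoImplicit false
set_option backward.isDefEq.respectTransparency.types false
universe u

open CategoryTheory AlgebraicGeometry Limits TopologicalSpace

namespace Groth.Agent.H40.CD

theorem factors_pullback_snd_iff {A B C T : Scheme.{u}} (f : A ⟶ C) (g : B ⟶ C) (u : T ⟶ B) :
    (∃ w : T ⟶ pullback f g, w ≫ pullback.snd f g = u) ↔ ∃ w' : T ⟶ A, w' ≫ f = u ≫ g := by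
  constructor
  · rintro ⟨w, rfl⟩
    exact ⟨w ≫ pullback.fst f g, by rw [Category.assoc, pullback.condition, Category.assoc]⟩
  · rintro ⟨w', hw'⟩
    exact ⟨pullback.lift w' u hw', pullback.lift_snd _ _ _⟩

theorem factors_pullback_fst_iff {A B C T : Scheme.{u}} (f : A ⟶ C) (g : B ⟶ C) (u : T ⟶ A) :
    (∃ w : T ⟶ pullback f g, w ≫ pullback.fst f g = u) ↔ ∃ w' : T ⟶ B, w' ≫ g = u ≫ f := by
  constructor
  · rintro ⟨w, rfl⟩
    exact ⟨w ≫ pullback.snd f g, by rw [Category.assoc, ← pullback.condition, Category.assoc]⟩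
  · rintro ⟨w', hw'⟩
    exact ⟨pullback.lift u w' hw'.symm, pullback.lift_fst _ _ _⟩

section

variable {X : Scheme.{u}} (F : ∀ ⦃T : Scheme.{u}⦄, (T ⟶ X) → Prop)

/-- a finite jointly surjective family of flat affine charts over an affine open neighbourhood
of `x`, on each of which `F` is represented by a closed subscheme (of finite presentation if
`fp`). -/
def FlatChartsAt (fp : Prop) (x : X) : Prop :=
  ∃ (D : X.Opens) (_ : IsAffine D.toScheme), x ∈ D ∧
    ∃ (n : ℕ) (O W : Fin n → Scheme.{u}) (_ : ∀ k, IsAffine (O k)) (p : ∀ k, O k ⟶ D.toScheme)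
      (ι : ∀ k, W k ⟶ O k), (∀ k, Flat (p k)) ∧ (∀ y : D.toScheme, ∃ k, y ∈ Set.range (p k)) ∧
      (∀ k, IsClosedImmersion (ι k)) ∧
      (∀ (k : Fin n) ⦃T : Scheme.{u}⦄ (u : T ⟶ O k),
        F (u ≫ p k ≫ D.ι) ↔ ∃ w : T ⟶ W k, w ≫ ι k = u) ∧
      (fp → ∀ k, LocallyOfFinitePresentation (ι k))

variable (hF1 : ∀ ⦃T T' : Scheme.{u}⦄ (h : T' ⟶ T) (g : T ⟶ X), F g → F (h ≫ g))
  (hF2z : ∀ ⦃T : Scheme.{u}⦄ (g : T ⟶ X) {σ : Type u} (O : σ → T.Opens), (⨆ i, O i = ⊤) →
    (∀ i, F ((O i).ι ≫ g)) → F g)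
  (hF2fl : ∀ ⦃T T' : Scheme.{u}⦄ (π : T' ⟶ T) [Flat π] [Surjective π] (g : T ⟶ X),
    F (π ≫ g) → F g)

include hF1 hF2z hF2fl in
/-- a Zariski-local, flat-local subfunctor of `X` which is represented by closed subschemes on
finite families of flat affine charts is represented by a closed subscheme. -/
theorem closed_of_flat_charts (hloc : ∀ x : X, FlatChartsAt F False x) :
    ∃ (W : Scheme.{u}) (ι : W ⟶ X), IsClosedImmersion ι ∧
      ∀ ⦃T : Scheme.{u}⦄ (g : T ⟶ X), F g ↔ ∃ w : T ⟶ W, w ≫ ι = g := by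
  apply closed_of_ideal_local F hF1 hF2z
  intro x
  obtain ⟨D, hD, hx, n, O, W, hO, p, ι, hp, hsurj, hι, hW, -⟩ := hloc x
  refine ⟨D, hD, hx, ?_⟩
  haveI : Flat (Sigma.desc p) := IsZariskiLocalAtSource.sigmaDesc hp
  haveI := surjective_sigmaDesc O p hsurj
  refine affine_core_family O W p hsurj ι (fun T g' => F (g' ≫ D.ι)) ?_ ?_ ?_ ?_
  · intro T T' h g' hg'
    change F ((h ≫ g') ≫ D.ι)
    rw [Category.assoc]
    exact hF1 h _ hg'
  · intro T g' σ Q hQ h
    exact hF2z _ Q hQ (fun i => by simpa only [Category.assoc] using h i)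
  · intro k T u
    change F ((u ≫ p k) ≫ D.ι) ↔ _
    rw [Category.assoc]
    exact hW k u
  · intro T g' hg'
    change F ((pullback.fst g' (Sigma.desc p) ≫ g') ≫ D.ι) at hg'
    rw [Category.assoc] at hg'
    exact hF2fl (pullback.fst g' (Sigma.desc p)) _ hg'

/-- the finite presentation clause. -/
theorem lfp_of_flat_charts {W : Scheme.{u}} (t : W ⟶ X) [IsClosedImmersion t]
    (ht : ∀ ⦃T : Scheme.{u}⦄ (g : T ⟶ X), F g ↔ ∃ w : T ⟶ W, w ≫ t = g)
    (hloc : ∀ x : X, FlatChartsAt F True x) : LocallyOfFinitePresentation t := by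
  apply IsZariskiLocalAtTarget.of_forall_exists_morphismRestrict
    (P := @LocallyOfFinitePresentation)
  intro x
  obtain ⟨D, hD, hx, n, O, W', hO, p, ι, hp, hsurj, hι, hW, hfp⟩ := hloc x
  refine ⟨D, hx, ?_⟩
  haveI : Flat (Sigma.desc p) := IsZariskiLocalAtSource.sigmaDesc hp
  haveI := surjective_sigmaDesc O p hsurj
  haveI : ∀ k, LocallyOfFinitePresentation (ι k) := hfp trivial
  haveI : ∀ k, IsClosedImmersion (ι k) := hι
  have h1 : LocallyOfFinitePresentation (pullback.fst (Sigma.desc p) (pullback.snd t D.ι)) := by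
    rw [IsZariskiLocalAtTarget.iff_of_openCover (P := @LocallyOfFinitePresentation)
      (sigmaOpenCover O)]
    intro k
    change LocallyOfFinitePresentation
      (pullback.snd (pullback.fst (Sigma.desc p) (pullback.snd t D.ι)) (Sigma.ι O k))
    obtain ⟨e, he⟩ := exists_iso_of_repr (fun T (u : T ⟶ O k) => F (u ≫ p k ≫ D.ι))
      (pullback.snd (pullback.fst (Sigma.desc p) (pullback.snd t D.ι)) (Sigma.ι O k)) (ι k)
      (fun T u => by
        rw [factors_pullback_snd_iff, ht]
        constructor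
        · rintro ⟨w, hw⟩
          refine ⟨pullback.lift (u ≫ Sigma.ι O k)
            (pullback.lift w (u ≫ p k) (by rw [hw, Category.assoc])) ?_, pullback.lift_fst _ _ _⟩
          rw [pullback.lift_snd, Category.assoc, Sigma.ι_desc]
        · rintro ⟨w', hw'⟩
          refine ⟨w' ≫ pullback.snd (Sigma.desc p) (pullback.snd t D.ι) ≫ pullback.fst t D.ι, ?_⟩
          rw [Category.assoc, Category.assoc, pullback.condition,
            ← Category.assoc (pullback.snd (Sigma.desc p) _), ← pullback.condition,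
            Category.assoc, ← Category.assoc w', hw', Category.assoc, Sigma.ι_desc_assoc]) (hW k)
    rw [← he]
    infer_instance
  haveI : QuasiCompact (Sigma.desc p) := inferInstance
  have h2 : LocallyOfFinitePresentation (pullback.snd t D.ι) :=
    MorphismProperty.of_pullback_fst_of_descendsAlong (P := @LocallyOfFinitePresentation)
      (Q := @Surjective ⊓ @Flat ⊓ @QuasiCompact) (f := Sigma.desc p)
      ⟨⟨inferInstance, inferInstance⟩, inferInstance⟩ h1
  rw [← pullbackRestrictIsoRestrict_hom_morphismRestrict t D] at h2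
  exact (MorphismProperty.cancel_left_of_respectsIso (P := @LocallyOfFinitePresentation)
    (pullbackRestrictIsoRestrict t D).hom (t ∣_ D)).mp h2

end

end Groth.Agent.H40.CD
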