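import Groth.Agent.H40.CD.Glob

/-!
# Closed descent: globalisation from affine-local ideals, and a variant of `core` with atlases
given affine-locally
-/

set_option autoImplicit false
set_option backward.isDefEq.respectTransparency.types false
universe u

open CategoryTheory AlgebraicGeometry Limits TopologicalSpace

namespace Groth.Agent.H40.CD

section

variable {X : Scheme.{u}} (F : ∀ ⦃T : Scheme.{u}⦄, (T ⟶ X) → Prop)
  (hF1 : ∀ ⦃T T' : Scheme.{u}⦄ (h : T' ⟶ T) (g : T ⟶ X), F g → F (h ≫ g))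
  (hF2z : ∀ ⦃T : Scheme.{u}⦄ (g : T ⟶ X) {σ : Type u} (O : σ → T.Opens), (⨆ i, O i = ⊤) →
    (∀ i, F ((O i).ι ≫ g)) → F g)

/-- transport of an ideal of `Γ(V.toScheme, ⊤)` controlling `F` to an ideal of `Γ(X, V)`. -/
theorem ideal_of_toScheme_ideal (V : X.Opens)
    (h : ∃ I : Ideal Γ(V.toScheme, ⊤), ∀ ⦃T : Scheme.{u}⦄ (g' : T ⟶ V.toScheme),
      F (g' ≫ V.ι) ↔ I ≤ RingHom.ker g'.appTop.hom) :
    ∃ I : Ideal Γ(X, V), ∀ ⦃T : Scheme.{u}⦄ (g : T ⟶ X), g ⁻¹ᵁ V = ⊤ →
      (F g ↔ I ≤ RingHom.ker (g.app V).hom) := by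
  obtain ⟨I, hI⟩ := h
  refine ⟨I.comap V.topIso.inv.hom, fun T g hg => ?_⟩
  have hrange : Set.range g ⊆ Set.range V.ι := by
    rw [Scheme.Opens.range_ι]
    rintro _ ⟨x, rfl⟩
    have : x ∈ g ⁻¹ᵁ V := hg ▸ trivial
    exact this
  obtain ⟨g', rfl⟩ : ∃ g' : T ⟶ V.toScheme, g' ≫ V.ι = g :=
    ⟨IsOpenImmersion.lift V.ι g hrange, IsOpenImmersion.lift_fac _ _ _⟩
  rw [hI g']
  have hinv : ∀ a : Γ(V.toScheme, ⊤), V.topIso.inv.hom (V.topIso.hom.hom a) = a := by
    intro a
    rw [← RingHom.comp_apply, ← CommRingCat.hom_comp, Iso.hom_inv_id]; rfl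
  constructor
  · intro h s hs
    rw [RingHom.mem_ker, app_comp_ι_eq_zero_iff]
    exact h hs
  · intro h a ha
    have := h (x := V.topIso.hom.hom a) (by rw [Ideal.mem_comap, hinv]; exact ha)
    rw [RingHom.mem_ker, app_comp_ι_eq_zero_iff, hinv] at this
    exact this

include hF1 hF2z in
/-- a subfunctor of `X` that is Zariski-local and cut out by an ideal on every affine open is
represented by a closed subscheme. -/
theorem closed_of_affine_local
    (hFA : ∀ V : X.affineOpens, ∃ I : Ideal Γ(X, V.1), ∀ ⦃T : Scheme.{u}⦄ (g : T ⟶ X),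
      g ⁻¹ᵁ V.1 = ⊤ → (F g ↔ I ≤ RingHom.ker (g.app V.1).hom)) :
    ∃ (W : Scheme.{u}) (ι : W ⟶ X), IsClosedImmersion ι ∧
      ∀ ⦃T : Scheme.{u}⦄ (g : T ⟶ X), F g ↔ ∃ w : T ⟶ W, w ≫ ι = g := by
  choose I hI using hFA
  have hmap : ∀ (V : X.affineOpens) (s : Γ(X, V)),
      (I V).map (X.presheaf.map (homOfLE <| X.basicOpen_le s).op).hom =
        I (X.affineBasicOpen s) := by
    intro V s
    have hDV : (X.affineBasicOpen s).1 ≤ V.1 := X.basicOpen_le s
    have hpre : ∀ {T : Scheme.{u}} (g : T ⟶ X), g ⁻¹ᵁ (X.affineBasicOpen s).1 = ⊤ →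
        g ⁻¹ᵁ V.1 = ⊤ := by
      intro T g hg
      apply top_le_iff.mp
      rw [← hg]
      exact fun _ hx => hDV hx
    apply le_antisymm
    · rw [Ideal.map_le_iff_le_comap]
      obtain ⟨T, g, hgD, hker⟩ := exists_test_scheme (X.affineBasicOpen s).1
        (X.affineBasicOpen s).2 (I (X.affineBasicOpen s))
      have hFg : F g := (hI _ g hgD).mpr hker.ge
      have hle := (hI V g (hpre g hgD)).mp hFg
      intro a ha
      rw [Ideal.mem_comap, ← hker]
      have key := app_res g hDV a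
      have := hle ha
      rw [RingHom.mem_ker] at this
      rw [this, map_zero] at key
      exact RingHom.mem_ker.mpr key
    · obtain ⟨T, g, hgD, hker⟩ := exists_test_scheme (X.affineBasicOpen s).1
        (X.affineBasicOpen s).2
        ((I V).map (X.presheaf.map (homOfLE <| X.basicOpen_le s).op).hom)
      have hFg : F g := by
        refine (hI V g (hpre g hgD)).mpr fun a ha => ?_
        rw [RingHom.mem_ker]
        have h1 : (X.presheaf.map (homOfLE <| X.basicOpen_le s).op).hom a ∈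
            RingHom.ker (g.app (X.affineBasicOpen s).1).hom := by
          rw [hker]; exact Ideal.mem_map_of_mem _ ha
        have h2 := (app_res g hDV a).symm.trans (RingHom.mem_ker.mp h1)
        exact presheaf_map_injective_of_eq (hgD.trans (hpre g hgD).symm) _
          (h2.trans (map_zero _).symm)
      have := (hI _ g hgD).mp hFg
      rw [hker] at this
      exact this
  let K : X.IdealSheafData := { ideal := I, map_ideal_basicOpen := hmap }
  refine ⟨K.subscheme, K.subschemeι, inferInstance, fun T g => ⟨fun hg => ?_, ?_⟩⟩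
  · have hle : K ≤ g.ker := by
      refine Scheme.IdealSheafData.le_ofIdeals_iff.mpr fun V => ?_
      change I V ≤ _
      have hpre : ((g ⁻¹ᵁ V.1).ι ≫ g) ⁻¹ᵁ V.1 = ⊤ := Scheme.Opens.ι_preimage_self _
      have := (hI V ((g ⁻¹ᵁ V.1).ι ≫ g) hpre).mp (hF1 _ _ hg)
      intro a ha
      have h1 := RingHom.mem_ker.mp (this ha)
      change (Scheme.Hom.app (g ⁻¹ᵁ V.1).ι (g ⁻¹ᵁ V.1)).hom ((g.app V.1).hom a) = 0 at h1
      rw [RingHom.mem_ker]
      exact ι_app_injective _ (h1.trans (map_zero _).symm)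
    exact ⟨IsClosedImmersion.lift K.subschemeι g (by rw [K.ker_subschemeι]; exact hle),
      IsClosedImmersion.lift_fac _ _ _⟩
  · rintro ⟨w, rfl⟩
    apply hF1
    apply hF2z K.subschemeι (fun V : X.affineOpens => K.subschemeι ⁻¹ᵁ V.1)
    · rw [← Scheme.Hom.preimage_iSup, iSup_affineOpens_eq_top]
      rfl
    · intro V
      have hpre : ((K.subschemeι ⁻¹ᵁ V.1).ι ≫ K.subschemeι) ⁻¹ᵁ V.1 = ⊤ :=
        Scheme.Opens.ι_preimage_self _
      refine (hI V _ hpre).mpr fun a ha => ?_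
      rw [RingHom.mem_ker]
      change (Scheme.Hom.app (K.subschemeι ⁻¹ᵁ V.1).ι (K.subschemeι ⁻¹ᵁ V.1)).hom
        ((K.subschemeι.app V.1).hom a) = 0
      have : (K.subschemeι.app V.1).hom a = 0 := by
        rw [← RingHom.mem_ker, K.ker_subschemeι_app]
        exact ha
      rw [this, map_zero]

variable (hF2 : ∀ ⦃T T' : Scheme.{u}⦄ (π : T' ⟶ T) [Flat π] [Surjective π] (g : T ⟶ X),
    F (π ≫ g) → F g)

include hF1 hF2 hF2z in
/-- variant of `core` where the flat affine atlases are given over each affine open. -/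
theorem core'
    (hA : ∀ V : X.affineOpens, ∃ (U₁ W₁ : Scheme.{u}) (_ : IsAffine U₁) (p : U₁ ⟶ V.1.toScheme)
      (j : W₁ ⟶ U₁), Flat p ∧ Surjective p ∧ IsClosedImmersion j ∧
      ∀ ⦃T : Scheme.{u}⦄ (u₁ : T ⟶ U₁), F (u₁ ≫ p ≫ V.1.ι) ↔ ∃ w : T ⟶ W₁, w ≫ j = u₁) :
    ∃ (W : Scheme.{u}) (ι : W ⟶ X), IsClosedImmersion ι ∧
      ∀ ⦃T : Scheme.{u}⦄ (g : T ⟶ X), F g ↔ ∃ w : T ⟶ W, w ≫ ι = g := by
  apply closed_of_affine_local F hF1 hF2z
  intro V
  obtain ⟨U₁, W₁, hU₁, p, j, hp, hps, hj, hF3⟩ := hA V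
  haveI : IsAffine V.1.toScheme := V.2
  apply ideal_of_toScheme_ideal
  exact affine_core p (fun T g' => F (g' ≫ V.1.ι))
    (fun T T' h g hg => by simpa only [Category.assoc] using hF1 h _ hg)
    (fun T T' π _ _ g hg => hF2 π _ (by simpa only [Category.assoc] using hg)) j
    (fun T u₁ => by simpa only [Category.assoc] using hF3 u₁)

end

end Groth.Agent.H40.CD
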