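import Groth.Agent.H40.CD.AffineCore2
import Groth.Agent.H40.CD.Glob2

/-!
# Closed descent: finite flat affine atlases over each affine open, with descent only along the
atlas
-/

set_option autoImplicit false
set_option backward.isDefEq.respectTransparency.types false
universe u

open CategoryTheory AlgebraicGeometry Limits TopologicalSpace

namespace Groth.Agent.H40.CD

section

variable {X : Scheme.{u}} (F : ∀ ⦃T : Scheme.{u}⦄, (T ⟶ X) → Prop)
  (hF1 : ∀ ⦃T T' : Scheme.{u}⦄ (h : T' ⟶ T) (g : T ⟶ X), F g → F (h ≫ g))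
  (hF2z : ∀ ⦃T : Scheme.{u}⦄ (g : T ⟶ X) {σ : Type u} (O : σ → T.Opens), (⨆ i, O i = ⊤) →
    (∀ i, F ((O i).ι ≫ g)) → F g)

include hF1 hF2z in
/-- a Zariski-local subfunctor which over every affine open has a finite flat affine atlas of
closed charts, and descends along this atlas, is a closed subscheme. -/
theorem core_family
    (hA : ∀ V : X.affineOpens, ∃ (n : ℕ) (O W : Fin n → Scheme.{u}) (_ : ∀ k, IsAffine (O k))
      (p : ∀ k, O k ⟶ V.1.toScheme) (j : ∀ k, W k ⟶ O k),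
      (∀ k, Flat (p k)) ∧ (∀ y : V.1.toScheme, ∃ k, y ∈ Set.range (p k)) ∧
      (∀ k, IsClosedImmersion (j k)) ∧
      (∀ (k : Fin n) ⦃T : Scheme.{u}⦄ (x : T ⟶ O k),
        F (x ≫ p k ≫ V.1.ι) ↔ ∃ w : T ⟶ W k, w ≫ j k = x) ∧
      (∀ ⦃T : Scheme.{u}⦄ (g : T ⟶ V.1.toScheme),
        F (pullback.fst g (Sigma.desc p) ≫ g ≫ V.1.ι) → F (g ≫ V.1.ι))) :
    ∃ (W : Scheme.{u}) (ι : W ⟶ X), IsClosedImmersion ι ∧
      ∀ ⦃T : Scheme.{u}⦄ (g : T ⟶ X), F g ↔ ∃ w : T ⟶ W, w ≫ ι = g := by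
  apply closed_of_affine_local F hF1 hF2z
  intro V
  obtain ⟨n, O, W, hO, p, j, hp, hsurj, hj, hF3, hF2⟩ := hA V
  haveI : IsAffine V.1.toScheme := V.2
  apply ideal_of_toScheme_ideal
  exact affine_core_family O W p hsurj j (fun T g' => F (g' ≫ V.1.ι))
    (fun T T' h g hg => by simpa only [Category.assoc] using hF1 h _ hg)
    (fun T g σ O hO h => hF2z _ O hO (fun i => by simpa only [Category.assoc] using h i))
    (fun k T x => by simpa only [Category.assoc] using hF3 k x)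
    (fun T g hg => hF2 g (by simpa only [Category.assoc] using hg))

end

end Groth.Agent.H40.CD
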