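import Groth.Agent.H40.CD.LocalGlobal
import Mathlib.AlgebraicGeometry.Morphisms.Separated

/-!
# The equalizer of two morphisms with the same underlying map is a closed subscheme
-/

set_option autoImplicit false
set_option backward.isDefEq.respectTransparency.types false
universe u

open CategoryTheory AlgebraicGeometry Limits TopologicalSpace

namespace Groth.Agent.H40.CD

/-- two monomorphisms into `P` through which the same morphisms factor are isomorphic over `P`;
in particular closedness transfers. -/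
theorem isClosedImmersion_of_same_factor {P E E' : Scheme.{u}} (ι : E ⟶ P) [IsClosedImmersion ι]
    (m : E' ⟶ P) [Mono m]
    (h : ∀ ⦃T : Scheme.{u}⦄ (g : T ⟶ P), (∃ w : T ⟶ E', w ≫ m = g) ↔ ∃ w : T ⟶ E, w ≫ ι = g) :
    IsClosedImmersion m := by
  obtain ⟨a, ha⟩ := (h m).mp ⟨𝟙 _, Category.id_comp _⟩
  obtain ⟨b, hb⟩ := (h ι).mpr ⟨𝟙 _, Category.id_comp _⟩
  haveI : Mono ι := inferInstance
  have hab : a ≫ b = 𝟙 _ := by
    rw [← cancel_mono m, Category.assoc, hb, ha, Category.id_comp]
  have hba : b ≫ a = 𝟙 _ := by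
    rw [← cancel_mono ι, Category.assoc, ha, hb, Category.id_comp]
  haveI : IsIso a := ⟨b, hab, hba⟩
  rw [← ha]
  infer_instance

/-- the equalizer of two morphisms of schemes which agree on points is a closed subscheme. -/
theorem exists_closed_eq_of_base_eq {P X : Scheme.{u}} (a b : P ⟶ X) (hab : ∀ z : P, a z = b z) :
    ∃ (E : Scheme.{u}) (ι : E ⟶ P), IsClosedImmersion ι ∧
      ∀ ⦃T : Scheme.{u}⦄ (g : T ⟶ P), g ≫ a = g ≫ b ↔ ∃ w : T ⟶ E, w ≫ ι = g := by
  apply closed_of_zariski_local (fun T (g : T ⟶ P) => g ≫ a = g ≫ b)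
  · intro T T' h g hg
    change (h ≫ g) ≫ a = (h ≫ g) ≫ b
    rw [Category.assoc, Category.assoc, hg]
  · intro T g σ O hO h
    have hO' : TopologicalSpace.IsOpenCover O := hO
    apply (T.openCoverOfIsOpenCover O hO').hom_ext
    intro i
    have := h i
    rw [Category.assoc, Category.assoc] at this
    exact this
  · intro x
    obtain ⟨V, hV, hxV, -⟩ := exists_isAffineOpen_mem_and_subset (x := a x) (U := ⊤) trivial
    haveI : IsAffine V.toScheme := hV
    let D : P.Opens := a ⁻¹ᵁ V ⊓ b ⁻¹ᵁ V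
    have hxD : x ∈ D := ⟨hxV, by change b x ∈ V; rw [← hab]; exact hxV⟩
    have hra : Set.range (D.ι ≫ a) ⊆ Set.range V.ι := by
      rw [Scheme.Opens.range_ι]
      rintro _ ⟨y, rfl⟩
      exact y.2.1
    have hrb : Set.range (D.ι ≫ b) ⊆ Set.range V.ι := by
      rw [Scheme.Opens.range_ι]
      rintro _ ⟨y, rfl⟩
      exact y.2.2
    let aD : D.toScheme ⟶ V.toScheme := IsOpenImmersion.lift V.ι (D.ι ≫ a) hra
    let bD : D.toScheme ⟶ V.toScheme := IsOpenImmersion.lift V.ι (D.ι ≫ b) hrb
    have haD : aD ≫ V.ι = D.ι ≫ a := IsOpenImmersion.lift_fac _ _ _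
    have hbD : bD ≫ V.ι = D.ι ≫ b := IsOpenImmersion.lift_fac _ _ _
    refine ⟨D, equalizer aD bD, equalizer.ι aD bD, hxD, inferInstance, fun T g => ?_⟩
    change (g ≫ D.ι) ≫ a = (g ≫ D.ι) ≫ b ↔ _
    rw [Category.assoc, Category.assoc, ← haD, ← hbD, ← Category.assoc, ← Category.assoc,
      cancel_mono]
    constructor
    · intro h
      exact ⟨equalizer.lift g h, equalizer.lift_ι _ _⟩
    · rintro ⟨w, rfl⟩
      rw [Category.assoc, Category.assoc, equalizer.condition]

end Groth.Agent.H40.CD
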