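import Groth.Agent.H40.CD.AffineEssFree
import Mathlib.AlgebraicGeometry.Morphisms.Separated
import Mathlib.CategoryTheory.Monoidal.Cartesian.Over

/-!
# Closedness of `∏_{P/X} Z` when `P ⟶ X` is essentially free locally on `X`; equalizer loci over a
general base.
-/

set_option autoImplicit false
set_option backward.isDefEq.respectTransparency.types false
universe u

open CategoryTheory AlgebraicGeometry Limits MonoidalCategory CartesianMonoidalCategory

namespace Groth.Agent.H40.CD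

/-- **Closedness of `∏_{P/X} Z`** when `P` is essentially free over a neighbourhood of every
point of `X`. -/
theorem closed_of_essFree_local {X P Z : Scheme.{u}} (pr : P ⟶ X) (j : Z ⟶ P)
    [IsClosedImmersion j]
    (hEF : ∀ x : X, ∃ (V : X.Opens) (hV : IsAffine V.toScheme), x ∈ V ∧ @EssFreeAt _ _ pr V hV) :
    ∃ (W : Scheme.{u}) (ι : W ⟶ X), IsClosedImmersion ι ∧
      ∀ ⦃T : Scheme.{u}⦄ (g : T ⟶ X), AllIn pr j g ↔ ∃ w : T ⟶ W, w ≫ ι = g := by
  apply closed_of_ideal_local (fun T g => AllIn pr j g)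
    (fun T T' h g hg => hg.precomp pr j h)
    (fun T g σ O hO h => allIn_zariski_local pr j g O hO h)
  intro x
  obtain ⟨V, hV, hx, κ, R, φ, uu, huo, hfree, huu, hcov⟩ := hEF x
  letI : ∀ i, Algebra Γ(V.toScheme, ⊤) (R i) := fun i => (φ i).hom.toAlgebra
  haveI : ∀ i, Module.Free Γ(V.toScheme, ⊤) (R i) := hfree
  haveI : ∀ i, IsOpenImmersion (uu i) := huo
  exact ⟨V, hV, hx, exists_ideal_allIn pr j V (fun i => R i) uu huu hcov⟩

/-- For `α β : Y ⊗ X ⟶ E` over `S` with `E` separated and `Y ×_S X ⟶ X` essentially free locally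
on `X`: the subfunctor of `X` of points `x` with `α(y, x) = β(y, x)` for all points `y` of `Y` is
a closed subscheme. -/
theorem exists_closed_eqLocus_of_essFree {S : Scheme.{u}} (Y X E : Over S)
    [IsSeparated E.hom] (α β : Y ⊗ X ⟶ E)
    (hEF : ∀ x : X.left, ∃ (V : X.left.Opens) (hV : IsAffine V.toScheme), x ∈ V ∧
      @EssFreeAt _ _ (pullback.snd Y.hom X.hom) V hV) :
    ∃ (W : Scheme.{u}) (ι : W ⟶ X.left), IsClosedImmersion ι ∧
      ∀ (T : Over S) (x : T ⟶ X),
        ((Y ◁ x) ≫ α = (Y ◁ x) ≫ β) ↔ ∃ w : T.left ⟶ W, w ≫ ι = x.left := by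
  obtain ⟨W, ι, hι, hW⟩ := closed_of_essFree_local (pullback.snd Y.hom X.hom)
    (equalizer.ι α β).left hEF
  refine ⟨W, ι, hι, fun T x => ?_⟩
  rw [← hW]
  constructor
  · intro heq Q h t ht
    have hw : t ≫ T.hom = h ≫ (Y ⊗ X).hom := by
      have h1 : x.left ≫ X.hom = T.hom := Over.w x
      have h2 : (Y ⊗ X).hom = pullback.snd Y.hom X.hom ≫ X.hom := by
        rw [Over.tensorObj_hom, pullback.condition]
      rw [← h1, ← Category.assoc, ← ht, h2, Category.assoc]
    let ho : Over.mk (h ≫ (Y ⊗ X).hom) ⟶ Y ⊗ X := Over.homMk h rfl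
    let tq : Over.mk (h ≫ (Y ⊗ X).hom) ⟶ T := Over.homMk t hw
    have h3 : ho = lift (ho ≫ fst Y X) tq ≫ (Y ◁ x) := by
      rw [lift_whiskerLeft]
      apply CartesianMonoidalCategory.hom_ext
      · rw [lift_fst]
      · rw [lift_snd]
        ext
        exact ht
    have h4 : ho ≫ α = ho ≫ β := by
      rw [h3, Category.assoc, Category.assoc, heq]
    refine ⟨(equalizer.lift ho h4).left, ?_⟩
    rw [← Over.comp_left, equalizer.lift_ι]
    rfl
  · intro hall
    obtain ⟨w, hw⟩ := hall (Y ◁ x).left (snd Y T).left (by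
      rw [← Over.snd_left, ← Over.comp_left, ← Over.comp_left, whiskerLeft_snd])
    ext
    rw [Over.comp_left, Over.comp_left, ← hw, Category.assoc, Category.assoc, ← Over.comp_left,
      ← Over.comp_left, equalizer.condition]

/-- fixed-point-style corollary: `Y ⟶ S` affine with locally free coordinate ring. -/
theorem exists_closed_eqLocus_of_affine_free {S : Scheme.{u}} (Y X E : Over S)
    [IsSeparated E.hom] [IsAffineHom Y.hom] (α β : Y ⊗ X ⟶ E)
    (hfree : ∀ s : S, ∃ U : S.affineOpens, s ∈ (U : S.Opens) ∧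
      @Module.Free Γ(S, U) Γ(Y.left, Y.hom ⁻¹ᵁ U) _ _ (Y.hom.app U).hom.toAlgebra.toModule) :
    ∃ (W : Scheme.{u}) (ι : W ⟶ X.left), IsClosedImmersion ι ∧
      ∀ (T : Over S) (x : T ⟶ X),
        ((Y ◁ x) ≫ α = (Y ◁ x) ≫ β) ↔ ∃ w : T.left ⟶ W, w ≫ ι = x.left := by
  apply exists_closed_eqLocus_of_essFree
  intro x
  obtain ⟨U, hxU, hfreeU⟩ := hfree (X.hom x)
  obtain ⟨V, hV, hxV, hVle⟩ : ∃ V : X.left.Opens, IsAffineOpen V ∧ x ∈ V ∧ V ≤ X.hom ⁻¹ᵁ U.1 :=
    TopologicalSpace.Opens.isBasis_iff_nbhd.mp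
      X.left.isBasis_affineOpens (show x ∈ X.hom ⁻¹ᵁ U.1 from hxU)
  have hV' : IsAffine V.toScheme := hV
  exact ⟨V, hV', hxV, essFreeAt_pullback_snd_of_free Y.hom X.hom U.1 U.2 hfreeU V hVle⟩

end Groth.Agent.H40.CD
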