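import Groth.Agent.H40.CD.EqLocus2
import Groth.Agent.H40.CD.EqBase

/-!
# Equalizer loci without separatedness, when the equalizer is known to be closed
-/

set_option autoImplicit false
set_option backward.isDefEq.respectTransparency.types false
universe u

open CategoryTheory AlgebraicGeometry Limits MonoidalCategory CartesianMonoidalCategory

namespace Groth.Agent.H40.CD

/-- morphisms factoring through the equalizer in `Over S`. -/
theorem factors_equalizer_left_iff {S : Scheme.{u}} {P X : Over S} (α β : P ⟶ X)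
    ⦃T : Scheme.{u}⦄ (g : T ⟶ P.left) :
    (∃ w : T ⟶ (equalizer α β).left, w ≫ (equalizer.ι α β).left = g) ↔
      g ≫ α.left = g ≫ β.left := by
  constructor
  · rintro ⟨w, rfl⟩
    have h1 := congrArg (fun φ => φ.left) (equalizer.condition α β)
    simp only [Over.comp_left] at h1
    rw [Category.assoc, Category.assoc, h1]
  · intro hx
    let xo : Over.mk (g ≫ P.hom) ⟶ P := Over.homMk g rfl
    have h2 : xo ≫ α = xo ≫ β := by
      ext
      simp only [Over.comp_left]
      exact hx
    refine ⟨(equalizer.lift xo h2).left, ?_⟩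
    rw [← Over.comp_left, equalizer.lift_ι]
    rfl

/-- in `Over S`, the equalizer of two morphisms which agree on points is a closed subscheme. -/
theorem isClosedImmersion_equalizer_left_of_base_eq {S : Scheme.{u}} {P X : Over S} (α β : P ⟶ X)
    (h : ∀ z : P.left, α.left z = β.left z) : IsClosedImmersion (equalizer.ι α β).left := by
  obtain ⟨E, ι, hι, hE⟩ := exists_closed_eq_of_base_eq α.left β.left h
  haveI : Mono (equalizer.ι α β).left := inferInstance
  apply isClosedImmersion_of_same_factor ι (equalizer.ι α β).left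
  intro T g
  rw [factors_equalizer_left_iff, hE]

/-- variant of `exists_closed_eqLocus_of_essFree` where the equalizer is assumed closed. -/
theorem exists_closed_eqLocus_of_essFree' {S : Scheme.{u}} (Y X E : Over S)
    (α β : Y ⊗ X ⟶ E) [IsClosedImmersion (equalizer.ι α β).left]
    (hEF : ∀ x : X.left, ∃ (V : X.left.Opens) (hV : IsAffine V.toScheme), x ∈ V ∧
      @EssFreeAt _ _ (pullback.snd Y.hom X.hom) V hV) :
    ∃ (W : Scheme.{u}) (ι : W ⟶ X.left), IsClosedImmersion ι ∧
      ∀ (T : Over S) (x : T ⟶ X),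
        ((Y ◁ x) ≫ α = (Y ◁ x) ≫ β) ↔ ∃ w : T.left ⟶ W, w ≫ ι = x.left := by
  obtain ⟨W, ι, hι, hW⟩ := closed_of_essFree_local (pullback.snd Y.hom X.hom)
    (equalizer.ι α β).left hEF
  refine ⟨W, ι, hι, fun T x => ?_⟩
  rw [← hW]
  constructor
  · intro heq Q h t ht
    have hw : t ≫ T.hom = h ≫ (Y ⊗ X).hom := by
      have h1 : x.left ≫ X.hom = T.hom := Over.w x
      have h2 : (Y ⊗ X).hom = pullback.snd Y.hom X.hom ≫ X.hom := by
        rw [Over.tensorObj_hom, pullback.condition]
      rw [← h1, ← Category.assoc, ← ht, h2, Category.assoc]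
    let ho : Over.mk (h ≫ (Y ⊗ X).hom) ⟶ Y ⊗ X := Over.homMk h rfl
    let tq : Over.mk (h ≫ (Y ⊗ X).hom) ⟶ T := Over.homMk t hw
    have h3 : ho = lift (ho ≫ fst Y X) tq ≫ (Y ◁ x) := by
      rw [lift_whiskerLeft]
      apply CartesianMonoidalCategory.hom_ext
      · rw [lift_fst]
      · rw [lift_snd]
        ext
        exact ht
    have h4 : ho ≫ α = ho ≫ β := by
      rw [h3, Category.assoc, Category.assoc, heq]
    refine ⟨(equalizer.lift ho h4).left, ?_⟩
    rw [← Over.comp_left, equalizer.lift_ι]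
    rfl
  · intro hall
    obtain ⟨w, hw⟩ := hall (Y ◁ x).left (snd Y T).left (by
      rw [← Over.snd_left, ← Over.comp_left, ← Over.comp_left, whiskerLeft_snd])
    ext
    rw [Over.comp_left, Over.comp_left, ← hw, Category.assoc, Category.assoc, ← Over.comp_left,
      ← Over.comp_left, equalizer.condition]

/-- `Y ⟶ S` affine with locally free coordinate ring, equalizer assumed closed. -/
theorem exists_closed_eqLocus_of_affine_free' {S : Scheme.{u}} (Y X E : Over S)
    [IsAffineHom Y.hom] (α β : Y ⊗ X ⟶ E) [IsClosedImmersion (equalizer.ι α β).left]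
    (hfree : ∀ s : S, ∃ U : S.affineOpens, s ∈ (U : S.Opens) ∧
      @Module.Free Γ(S, U) Γ(Y.left, Y.hom ⁻¹ᵁ U) _ _ (Y.hom.app U).hom.toAlgebra.toModule) :
    ∃ (W : Scheme.{u}) (ι : W ⟶ X.left), IsClosedImmersion ι ∧
      ∀ (T : Over S) (x : T ⟶ X),
        ((Y ◁ x) ≫ α = (Y ◁ x) ≫ β) ↔ ∃ w : T.left ⟶ W, w ≫ ι = x.left := by
  apply exists_closed_eqLocus_of_essFree'
  intro x
  obtain ⟨U, hxU, hfreeU⟩ := hfree (X.hom x)
  obtain ⟨V, hV, hxV, hVle⟩ : ∃ V : X.left.Opens, IsAffineOpen V ∧ x ∈ V ∧ V ≤ X.hom ⁻¹ᵁ U.1 :=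
    TopologicalSpace.Opens.isBasis_iff_nbhd.mp
      X.left.isBasis_affineOpens (show x ∈ X.hom ⁻¹ᵁ U.1 from hxU)
  have hV' : IsAffine V.toScheme := hV
  exact ⟨V, hV', hxV, essFreeAt_pullback_snd_of_free Y.hom X.hom U.1 U.2 hfreeU V hVle⟩

end Groth.Agent.H40.CD
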