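import Groth.Agent.H40.CD.EqLocus
import Groth.Agent.H40.CD.EqBase

/-!
# Fixed loci over a field without separatedness, when all opens are stable
-/

set_option autoImplicit false
set_option backward.isDefEq.respectTransparency.types false
universe u

open CategoryTheory AlgebraicGeometry Limits MonoidalCategory CartesianMonoidalCategory

namespace Groth.Agent.H40.CD

section

variable {S : Scheme.{u}} (Y X : Over S) (a : Y ⊗ X ⟶ X)

/-- scheme-level form of the fixed point condition. -/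
def FixedPt ⦃T : Scheme.{u}⦄ (g : T ⟶ X.left) : Prop :=
  ∀ ⦃Q : Scheme.{u}⦄ (h : Q ⟶ (Y ⊗ X).left) (t : Q ⟶ T),
    h ≫ pullback.snd Y.hom X.hom = t ≫ g → h ≫ a.left = h ≫ pullback.snd Y.hom X.hom

theorem fixedPt_iff (T : Over S) (x : T ⟶ X) :
    FixedPt Y X a x.left ↔ (Y ◁ x) ≫ a = snd Y T ≫ x := by
  constructor
  · intro hF
    ext
    have h1 := hF (Y ◁ x).left (snd Y T).left (by
      rw [← Over.snd_left, ← Over.comp_left, ← Over.comp_left, whiskerLeft_snd])
    rw [Over.comp_left, h1, ← Over.snd_left, ← Over.comp_left, whiskerLeft_snd]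
  · intro heq Q h t ht
    have hw : t ≫ T.hom = h ≫ (Y ⊗ X).hom := by
      have h1 : x.left ≫ X.hom = T.hom := Over.w x
      have h2 : (Y ⊗ X).hom = pullback.snd Y.hom X.hom ≫ X.hom := by
        rw [Over.tensorObj_hom, pullback.condition]
      rw [← h1, ← Category.assoc, ← ht, h2, Category.assoc]
    let ho : Over.mk (h ≫ (Y ⊗ X).hom) ⟶ Y ⊗ X := Over.homMk h rfl
    let tq : Over.mk (h ≫ (Y ⊗ X).hom) ⟶ T := Over.homMk t hw
    have h3 : ho = lift (ho ≫ fst Y X) tq ≫ (Y ◁ x) := by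
      rw [lift_whiskerLeft]
      apply CartesianMonoidalCategory.hom_ext
      · rw [lift_fst]
      · rw [lift_snd]
        ext
        exact ht
    have h4 : ho ≫ a = ho ≫ snd Y X := by
      rw [h3, Category.assoc, Category.assoc, heq, whiskerLeft_snd]
    have h5 := congrArg (fun φ => φ.left) h4
    simp only [Over.comp_left, Over.snd_left] at h5
    exact h5

end

/-- Over a field: the fixed locus of `a : Y ⊗ X ⟶ X` is a closed subscheme of `X` as soon as
every open subscheme of `X` is stable under `a` (no separatedness assumption). -/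
theorem exists_closed_fixed_of_stable {k : Type u} [Field k]
    (X Y : Over (Spec (CommRingCat.of k))) (a : Y ⊗ X ⟶ X)
    (hstab : ∀ U : X.left.Opens, (snd Y X).left ⁻¹ᵁ U ≤ a.left ⁻¹ᵁ U) :
    ∃ (W : Scheme.{u}) (ι : W ⟶ X.left), IsClosedImmersion ι ∧
      ∀ (T : Over (Spec (CommRingCat.of k))) (x : T ⟶ X),
        ((Y ◁ x) ≫ a = snd Y T ≫ x) ↔ ∃ w : T.left ⟶ W, w ≫ ι = x.left := by
  suffices hcl : ∃ (W : Scheme.{u}) (ι : W ⟶ X.left), IsClosedImmersion ι ∧
      ∀ ⦃T : Scheme.{u}⦄ (g : T ⟶ X.left), FixedPt Y X a g ↔ ∃ w : T ⟶ W, w ≫ ι = g by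
    obtain ⟨W, ι, hι, hW⟩ := hcl
    refine ⟨W, ι, hι, fun T x => ?_⟩
    rw [← fixedPt_iff, hW]
  apply closed_of_zariski_local (fun T g => FixedPt Y X a g)
  · intro T T' h g hg Q q t ht
    exact hg q (t ≫ h) (by rw [ht, Category.assoc])
  · intro T g σ O hO h Q q t ht
    have hO' : TopologicalSpace.IsOpenCover (fun i => t ⁻¹ᵁ O i) := by
      change ⨆ i, t ⁻¹ᵁ O i = ⊤
      rw [← Scheme.Hom.preimage_iSup, hO]; rfl
    apply (Q.openCoverOfIsOpenCover _ hO').hom_ext
    intro i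
    have := h i ((t ⁻¹ᵁ O i).ι ≫ q) (t ∣_ O i) (by
      rw [Category.assoc, ht, ← Category.assoc, ← Category.assoc, morphismRestrict_ι])
    rw [Category.assoc, Category.assoc] at this
    exact this
  · intro x₀
    obtain ⟨D, hD, hxD, -⟩ := exists_isAffineOpen_mem_and_subset (x := x₀) (U := ⊤) trivial
    haveI : IsAffine D.toScheme := hD
    let Do : Over (Spec (CommRingCat.of k)) := Over.mk (D.ι ≫ X.hom)
    let ιD : Do ⟶ X := Over.homMk D.ι rfl
    haveI : Mono ιD := by
      refine ⟨fun {Z} f g h => ?_⟩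
      ext
      have := congrArg (fun φ => φ.left) h
      simp only [Over.comp_left] at this
      exact (cancel_mono D.ι).mp this
    haveI : IsSeparated Do.hom := by
      change IsSeparated (D.ι ≫ X.hom)
      haveI : IsAffineHom (D.ι ≫ X.hom) := by
        have : IsAffine (Over.mk (D.ι ≫ X.hom)).left := hD
        exact isAffineHom_of_isAffine _
      infer_instance
    have hr : Set.range ((Y ◁ ιD) ≫ a).left ⊆ Set.range D.ι := by
      rw [Scheme.Opens.range_ι]
      rintro _ ⟨z, rfl⟩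
      rw [Over.comp_left, Scheme.Hom.comp_apply]
      apply hstab D
      change (snd Y X).left ((Y ◁ ιD).left z) ∈ D
      rw [← Scheme.Hom.comp_apply, ← Over.comp_left, whiskerLeft_snd, Over.comp_left,
        Scheme.Hom.comp_apply]
      exact ((snd Y Do).left z).2
    let α : Y ⊗ Do ⟶ Do := Over.homMk (IsOpenImmersion.lift D.ι ((Y ◁ ιD) ≫ a).left hr) (by
      change IsOpenImmersion.lift D.ι ((Y ◁ ιD) ≫ a).left hr ≫ D.ι ≫ X.hom = _
      rw [IsOpenImmersion.lift_fac_assoc, Over.w])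
    have hα : α ≫ ιD = (Y ◁ ιD) ≫ a := by
      ext
      exact IsOpenImmersion.lift_fac _ _ _
    obtain ⟨W, ι, hι, hW⟩ := exists_closed_eqLocus Y Do Do α (snd Y Do)
    refine ⟨D, W, ι, hxD, hι, fun T g => ?_⟩
    let x : Over.mk (g ≫ Do.hom) ⟶ Do := Over.homMk g rfl
    have e1 : g ≫ D.ι = (x ≫ ιD).left := rfl
    have e2 : (∃ w : T ⟶ W, w ≫ ι = g) ↔ ∃ w : (Over.mk (g ≫ Do.hom)).left ⟶ W, w ≫ ι = x.left :=
      Iff.rfl
    have h1 : Y ◁ (x ≫ ιD) ≫ a = ((Y ◁ x) ≫ α) ≫ ιD := by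
      rw [MonoidalCategory.whiskerLeft_comp, Category.assoc, ← hα, Category.assoc]
    have h2 : snd Y (Over.mk (g ≫ Do.hom)) ≫ x ≫ ιD = ((Y ◁ x) ≫ snd Y Do) ≫ ιD := by
      rw [whiskerLeft_snd, Category.assoc]
    rw [e1, fixedPt_iff, e2, ← hW, h1, h2, cancel_mono]
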