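import Groth.Agent.H40.CD.SecInj
import Mathlib.AlgebraicGeometry.Morphisms.ClosedImmersion
import Mathlib.AlgebraicGeometry.IdealSheaf.Subscheme
import Mathlib.AlgebraicGeometry.Gluing

/-!
# Factoring through monomorphisms / closed immersions is local on the source
-/

set_option autoImplicit false
set_option backward.isDefEq.respectTransparency.types false
universe u

open CategoryTheory AlgebraicGeometry Limits TopologicalSpace

namespace Groth.Agent.H40.CD

/-- factoring through a monomorphism is Zariski-local on the source. -/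
theorem factors_of_zariski_locally {P Z Q : Scheme.{u}} (j : Z ⟶ P) [Mono j] (h : Q ⟶ P)
    {σ : Type u} (O : σ → Q.Opens) (hO : ⨆ i, O i = ⊤)
    (hloc : ∀ i, ∃ w : (O i).toScheme ⟶ Z, w ≫ j = (O i).ι ≫ h) : ∃ w : Q ⟶ Z, w ≫ j = h := by
  choose w hw using hloc
  have hO' : TopologicalSpace.IsOpenCover O := hO
  obtain ⟨w', hx⟩ : ∃ w' : ∀ x : (Q.openCoverOfIsOpenCover O hO').I₀,
      (Q.openCoverOfIsOpenCover O hO').X x ⟶ Z,
      ∀ x, w' x ≫ j = (Q.openCoverOfIsOpenCover O hO').f x ≫ h := ⟨fun x => w x, fun x => hw x⟩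
  have hcompat : ∀ x y : (Q.openCoverOfIsOpenCover O hO').I₀,
      pullback.fst ((Q.openCoverOfIsOpenCover O hO').f x)
        ((Q.openCoverOfIsOpenCover O hO').f y) ≫ w' x = pullback.snd _ _ ≫ w' y := by
    intro x y
    apply (cancel_mono j).mp
    rw [Category.assoc, Category.assoc, hx, hx, pullback.condition_assoc]
  refine ⟨(Q.openCoverOfIsOpenCover O hO').glueMorphisms w' hcompat, ?_⟩
  apply (Q.openCoverOfIsOpenCover O hO').hom_ext
  intro i
  rw [Scheme.Cover.ι_glueMorphisms_assoc]
  exact hx i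

/-- the kernel of a morphism does not change under precomposition with a flat surjective
morphism. -/
theorem ker_comp_le_of_flat_surjective {P Q Q' : Scheme.{u}} (π : Q' ⟶ Q) [Flat π] [Surjective π]
    (h : Q ⟶ P) : (π ≫ h).ker ≤ h.ker := by
  refine Scheme.IdealSheafData.ofIdeals_mono fun U => ?_
  intro a ha
  rw [RingHom.mem_ker] at ha ⊢
  change (π.app (h ⁻¹ᵁ U.1)).hom ((h.app U.1).hom a) = 0 at ha
  exact eq_zero_of_app_eq_zero_single π _ _ ha

/-- factoring through a closed immersion is local on the source for flat surjective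
morphisms. -/
theorem factors_of_flat_surjective {P Z Q Q' : Scheme.{u}} (j : Z ⟶ P) [IsClosedImmersion j]
    (π : Q' ⟶ Q) [Flat π] [Surjective π] (h : Q ⟶ P)
    (hw : ∃ w' : Q' ⟶ Z, w' ≫ j = π ≫ h) : ∃ w : Q ⟶ Z, w ≫ j = h := by
  obtain ⟨w', hw'⟩ := hw
  have h1 : j.ker ≤ (π ≫ h).ker := by
    rw [← hw']
    exact Scheme.Hom.le_ker_comp w' j
  exact ⟨IsClosedImmersion.lift j h (h1.trans (ker_comp_le_of_flat_surjective π h)),
    IsClosedImmersion.lift_fac _ _ _⟩

end Groth.Agent.H40.CD
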