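import Groth.Agent.H40.CD.Glob2
import Groth.Agent.H40.CD.LocalFactor
import Mathlib.LinearAlgebra.FreeModule.Basic
import Mathlib.LinearAlgebra.TensorProduct.Tower

/-!
# Closedness of Weil-restriction-type subfunctors for essentially free families
-/

set_option autoImplicit false
set_option backward.isDefEq.respectTransparency.types false
universe u

open CategoryTheory AlgebraicGeometry Limits TopologicalSpace TensorProduct

namespace Groth.Agent.H40.CD

/-- the ideal of coefficients of an ideal of a free algebra. -/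
theorem exists_coeff_ideal {A B : Type u} [CommRing A] [CommRing B] [Algebra A B]
    [Module.Free A B] (J : Ideal B) :
    ∃ C : Ideal A,
      (∀ {R : Type u} [CommRing R] [Algebra A R], (∀ b ∈ J, (b ⊗ₜ[A] (1 : R)) = 0) →
        C ≤ RingHom.ker (algebraMap A R)) ∧
      J ≤ C.map (algebraMap A B) := by
  classical
  let bs := Module.Free.chooseBasis A B
  refine ⟨Ideal.span {a | ∃ b ∈ J, ∃ k, bs.repr b k = a}, ?_, ?_⟩
  · intro R _ _ hJ
    rw [Ideal.span_le]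
    rintro _ ⟨b, hb, k, rfl⟩
    let f : B ⊗[A] R →ₗ[A] R :=
      (TensorProduct.lid A R).toLinearMap ∘ₗ (LinearMap.rTensor R (bs.coord k))
    have h1 : f (b ⊗ₜ[A] (1 : R)) = algebraMap A R (bs.repr b k) := by
      simp [f, Algebra.algebraMap_eq_smul_one]
    rw [hJ b hb, map_zero] at h1
    exact h1.symm
  · intro b hb
    rw [← bs.linearCombination_repr b, Finsupp.linearCombination_apply]
    refine Submodule.sum_mem _ fun k _ => ?_
    change (bs.repr b k) • bs k ∈ _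
    rw [Algebra.smul_def]
    exact Ideal.mul_mem_right _ _ (Ideal.mem_map_of_mem _ (Ideal.subset_span ⟨b, hb, k, rfl⟩))

section AllIn

variable {X P Z : Scheme.{u}} (pr : P ⟶ X) (j : Z ⟶ P)

/-- all points of `P` lying over `g` factor through `Z`. -/
def AllIn {T : Scheme.{u}} (g : T ⟶ X) : Prop :=
  ∀ ⦃Q : Scheme.{u}⦄ (h : Q ⟶ P) (t : Q ⟶ T), h ≫ pr = t ≫ g → ∃ w : Q ⟶ Z, w ≫ j = h

theorem AllIn.precomp {T T' : Scheme.{u}} (e : T' ⟶ T) {g : T ⟶ X} (hg : AllIn pr j g) :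
    AllIn pr j (e ≫ g) := by
  intro Q h t ht
  exact hg h (t ≫ e) (by rw [ht, Category.assoc])

theorem allIn_zariski_local [Mono j] {T : Scheme.{u}} (g : T ⟶ X) {σ : Type u}
    (O : σ → T.Opens) (hO : ⨆ i, O i = ⊤) (h : ∀ i, AllIn pr j ((O i).ι ≫ g)) :
    AllIn pr j g := by
  intro Q q t ht
  apply factors_of_zariski_locally j q (fun i => t ⁻¹ᵁ (O i))
  · rw [← Scheme.Hom.preimage_iSup, hO]; rfl
  · intro i
    apply h i ((t ⁻¹ᵁ O i).ι ≫ q) (t ∣_ O i)
    rw [Category.assoc, ht, ← Category.assoc, ← Category.assoc, morphismRestrict_ι]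

end AllIn

/-- factorisation through a closed immersion into `Spec R`, in terms of an ideal of `R`. -/
theorem factors_Spec_iff {R : CommRingCat.{u}} {Z Q : Scheme.{u}} (j : Z ⟶ Spec R)
    [IsClosedImmersion j] (h' : Q ⟶ Spec R) :
    (∃ w : Q ⟶ Z, w ≫ j = h') ↔
      (RingHom.ker j.appTop.hom).comap (Scheme.ΓSpecIso R).inv.hom ≤
        RingHom.ker ((Scheme.ΓSpecIso R).inv ≫ h'.appTop).hom := by
  rw [factors_iff_of_isAffine]
  have hsurj : Function.Surjective (Scheme.ΓSpecIso R).inv.hom :=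
    (ConcreteCategory.bijective_of_isIso (Scheme.ΓSpecIso R).inv).2
  have : RingHom.ker ((Scheme.ΓSpecIso R).inv ≫ h'.appTop).hom =
      (RingHom.ker h'.appTop.hom).comap (Scheme.ΓSpecIso R).inv.hom := by
    rw [CommRingCat.hom_comp, RingHom.comap_ker]
  rw [this, Ideal.comap_le_comap_iff_of_surjective _ hsurj]

theorem ker_inv_comp_Spec_map_appTop {R R' : CommRingCat.{u}} (ψ : R ⟶ R') :
    RingHom.ker ((Scheme.ΓSpecIso R).inv ≫ (Spec.map ψ).appTop).hom = RingHom.ker ψ.hom := by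
  rw [← Scheme.ΓSpecIso_inv_naturality]
  ext x
  simp only [RingHom.mem_ker, CommRingCat.hom_comp, RingHom.comp_apply]
  have hinj : Function.Injective (Scheme.ΓSpecIso R').inv.hom :=
    (ConcreteCategory.bijective_of_isIso (Scheme.ΓSpecIso R').inv).1
  constructor
  · intro h
    exact hinj (h.trans (map_zero _).symm)
  · intro h
    rw [h, map_zero]

section Waff

variable {X P Z : Scheme.{u}} (pr : P ⟶ X) (j : Z ⟶ P) [IsClosedImmersion j]
  (V : X.Opens) [hV : IsAffine V.toScheme]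
  {κ : Type u} (R : κ → Type u) [∀ i, CommRing (R i)] [∀ i, Algebra Γ(V.toScheme, ⊤) (R i)]
  [∀ i, Module.Free Γ(V.toScheme, ⊤) (R i)]
  (uu : ∀ i, Spec (CommRingCat.of (R i)) ⟶ P) [∀ i, IsOpenImmersion (uu i)]
  (huu : ∀ i, uu i ≫ pr =
    ofRingHom (CommRingCat.ofHom (algebraMap Γ(V.toScheme, ⊤) (R i))) ≫ V.ι)
  (hcov : ∀ z : P, pr z ∈ V → ∃ i, z ∈ Set.range (uu i))

/-- the ideal of `R i` cutting out `Z` in the chart `uu i`. -/
noncomputable def chartIdeal (i : κ) : Ideal (R i) :=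
  (RingHom.ker (pullback.snd j (uu i)).appTop.hom).comap
    (Scheme.ΓSpecIso (CommRingCat.of (R i))).inv.hom

include huu in
theorem coeff_le_ker_of_allIn_of_isAffine (i : κ) (C : Ideal Γ(V.toScheme, ⊤))
    (hC : ∀ {R' : Type u} [CommRing R'] [Algebra Γ(V.toScheme, ⊤) R'],
      (∀ b ∈ chartIdeal j R uu i, (b ⊗ₜ[Γ(V.toScheme, ⊤)] (1 : R')) = 0) →
        C ≤ RingHom.ker (algebraMap Γ(V.toScheme, ⊤) R'))
    {T : Scheme.{u}} [IsAffine T] (g' : T ⟶ V.toScheme) (hg : AllIn pr j (g' ≫ V.ι)) :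
    C ≤ RingHom.ker g'.appTop.hom := by
  letI : Algebra Γ(V.toScheme, ⊤) Γ(T, ⊤) := g'.appTop.hom.toAlgebra
  refine hC (R' := Γ(T, ⊤)) fun b hb => ?_
  let ψ₁ : R i →+* R i ⊗[Γ(V.toScheme, ⊤)] Γ(T, ⊤) :=
    (Algebra.TensorProduct.includeLeft :
      R i →ₐ[Γ(V.toScheme, ⊤)] R i ⊗[Γ(V.toScheme, ⊤)] Γ(T, ⊤)).toRingHom
  let ψ₂ : Γ(T, ⊤) →+* R i ⊗[Γ(V.toScheme, ⊤)] Γ(T, ⊤) :=
    (Algebra.TensorProduct.includeRight :
      Γ(T, ⊤) →ₐ[Γ(V.toScheme, ⊤)] R i ⊗[Γ(V.toScheme, ⊤)] Γ(T, ⊤)).toRingHom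
  let h' : Spec (CommRingCat.of (R i ⊗[Γ(V.toScheme, ⊤)] Γ(T, ⊤))) ⟶
      Spec (CommRingCat.of (R i)) := Spec.map (CommRingCat.ofHom ψ₁)
  let t : Spec (CommRingCat.of (R i ⊗[Γ(V.toScheme, ⊤)] Γ(T, ⊤))) ⟶ T :=
    ofRingHom (CommRingCat.ofHom ψ₂)
  have hcomm : (h' ≫ uu i) ≫ pr = t ≫ g' ≫ V.ι := by
    rw [Category.assoc, huu, ← Category.assoc, ← Category.assoc]
    congr 1
    rw [ofRingHom_comp]
    change Spec.map _ ≫ Spec.map _ ≫ _ = _
    rw [← Category.assoc, ← Spec.map_comp]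
    change ofRingHom _ = _
    congr 1
    ext a
    rw [CommRingCat.hom_comp, CommRingCat.hom_comp, RingHom.comp_apply, RingHom.comp_apply]
    change ψ₁ (algebraMap _ _ a) = ψ₂ (algebraMap _ _ a)
    exact ((Algebra.TensorProduct.includeLeft :
      R i →ₐ[Γ(V.toScheme, ⊤)] R i ⊗[Γ(V.toScheme, ⊤)] Γ(T, ⊤)).commutes a).trans
      ((Algebra.TensorProduct.includeRight :
      Γ(T, ⊤) →ₐ[Γ(V.toScheme, ⊤)] R i ⊗[Γ(V.toScheme, ⊤)] Γ(T, ⊤)).commutes a).symm
  obtain ⟨w, hw⟩ := hg (h' ≫ uu i) t hcomm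
  have hfac : ∃ w' , w' ≫ pullback.snd j (uu i) = h' :=
    ⟨pullback.lift w h' hw, pullback.lift_snd _ _ _⟩
  rw [factors_Spec_iff, ker_inv_comp_Spec_map_appTop] at hfac
  have := hfac hb
  rw [RingHom.mem_ker] at this
  exact this

include huu in
theorem coeff_le_ker_of_allIn (i : κ) (C : Ideal Γ(V.toScheme, ⊤))
    (hC : ∀ {R' : Type u} [CommRing R'] [Algebra Γ(V.toScheme, ⊤) R'],
      (∀ b ∈ chartIdeal j R uu i, (b ⊗ₜ[Γ(V.toScheme, ⊤)] (1 : R')) = 0) →
        C ≤ RingHom.ker (algebraMap Γ(V.toScheme, ⊤) R'))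
    {T : Scheme.{u}} (g' : T ⟶ V.toScheme) (hg : AllIn pr j (g' ≫ V.ι)) :
    C ≤ RingHom.ker g'.appTop.hom := by
  intro a ha
  rw [RingHom.mem_ker]
  apply eq_zero_of_app_eq_zero (fun O : T.affineOpens => O.1.ι)
    (fun t => by
      obtain ⟨O, hO, htO, -⟩ := exists_isAffineOpen_mem_and_subset (x := t) (U := ⊤) trivial
      exact ⟨⟨O, hO⟩, ⟨t, htO⟩, rfl⟩) ⊤
  intro O
  haveI : IsAffine O.1.toScheme := O.2
  have h1 : AllIn pr j ((O.1.ι ≫ g') ≫ V.ι) := by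
    rw [Category.assoc]; exact hg.precomp pr j O.1.ι
  have h2 := coeff_le_ker_of_allIn_of_isAffine pr j V R uu huu i C hC (O.1.ι ≫ g') h1 ha
  rw [RingHom.mem_ker] at h2
  exact h2

include huu hcov in
theorem allIn_of_le_ker (C : κ → Ideal Γ(V.toScheme, ⊤))
    (hC : ∀ i, chartIdeal j R uu i ≤ (C i).map (algebraMap Γ(V.toScheme, ⊤) (R i)))
    {T : Scheme.{u}} (g' : T ⟶ V.toScheme) (hg : ∀ i, C i ≤ RingHom.ker g'.appTop.hom) :
    AllIn pr j (g' ≫ V.ι) := by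
  intro Q h t ht
  apply factors_of_zariski_locally j h (fun i => h ⁻¹ᵁ (uu i).opensRange)
  · apply top_le_iff.mp
    intro q _
    have hq : pr (h q) ∈ V := by
      rw [← Scheme.Hom.comp_apply, ht, Scheme.Hom.comp_apply, Scheme.Hom.comp_apply]
      exact (g' (t q)).2
    obtain ⟨i, hi⟩ := hcov (h q) hq
    exact Opens.mem_iSup.mpr ⟨i, hi⟩
  · intro i
    have hrange : Set.range ((h ⁻¹ᵁ (uu i).opensRange).ι ≫ h) ⊆ Set.range (uu i) := by
      rintro _ ⟨q, rfl⟩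
      exact q.2
    obtain ⟨hi', hhi'⟩ : ∃ hi' : (h ⁻¹ᵁ (uu i).opensRange).toScheme ⟶ Spec (CommRingCat.of (R i)),
        hi' ≫ uu i = (h ⁻¹ᵁ (uu i).opensRange).ι ≫ h :=
      ⟨IsOpenImmersion.lift (uu i) _ hrange, IsOpenImmersion.lift_fac _ _ _⟩
    have hfac : ∃ w', w' ≫ pullback.snd j (uu i) = hi' := by
      rw [factors_Spec_iff]
      refine (hC i).trans ?_
      rw [Ideal.map_le_iff_le_comap]
      intro c hc
      rw [Ideal.mem_comap, RingHom.mem_ker]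
      have h1 : hi' ≫ ofRingHom (CommRingCat.ofHom (algebraMap Γ(V.toScheme, ⊤) (R i))) =
          ((h ⁻¹ᵁ (uu i).opensRange).ι ≫ t) ≫ g' := by
        rw [← cancel_mono V.ι, Category.assoc, ← huu, ← Category.assoc, hhi', Category.assoc,
          ht, Category.assoc, Category.assoc]
      have h2 := congrArg (fun φ => (Scheme.Hom.appTop φ).hom c) h1
      simp only [Scheme.Hom.comp_appTop, ofRingHom_appTop, CommRingCat.hom_comp,
        RingHom.comp_apply, CommRingCat.hom_ofHom] at h2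
      have h3 : g'.appTop.hom c = 0 := hg i hc
      rw [h3, map_zero, map_zero] at h2
      rw [CommRingCat.hom_comp, RingHom.comp_apply]
      exact h2
    obtain ⟨w', hw'⟩ := hfac
    exact ⟨w' ≫ pullback.fst j (uu i), by
      rw [Category.assoc, pullback.condition, ← Category.assoc, hw', hhi']⟩

include huu hcov in
/-- **Affine-local closedness for essentially free families.** -/
theorem exists_ideal_allIn :
    ∃ I : Ideal Γ(V.toScheme, ⊤), ∀ ⦃T : Scheme.{u}⦄ (g' : T ⟶ V.toScheme),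
      AllIn pr j (g' ≫ V.ι) ↔ I ≤ RingHom.ker g'.appTop.hom := by
  have hex := fun i => exists_coeff_ideal (A := Γ(V.toScheme, ⊤)) (chartIdeal j R uu i)
  choose C hC1 hC2 using hex
  refine ⟨⨆ i, C i, fun T g' => ⟨fun hg => ?_, fun hI => ?_⟩⟩
  · exact iSup_le fun i => coeff_le_ker_of_allIn pr j V R uu huu i (C i) (hC1 i) g' hg
  · exact allIn_of_le_ker pr j V R uu huu hcov C hC2 g' fun i => (le_iSup C i).trans hI

end Waff

section Global

variable {X P Z : Scheme.{u}} (pr : P ⟶ X) (j : Z ⟶ P) [IsClosedImmersion j]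

/-- `P` is essentially free over the affine open `V` of `X`: the part of `P` over `V` is covered
by affine open charts `Spec (R i)` with `R i` free over `Γ(V, ⊤)`. -/
def EssFreeAt (V : X.Opens) [IsAffine V.toScheme] : Prop :=
  ∃ (κ : Type u) (R : κ → CommRingCat.{u}) (φ : ∀ i, Γ(V.toScheme, ⊤) ⟶ R i)
    (uu : ∀ i, Spec (R i) ⟶ P),
    (∀ i, IsOpenImmersion (uu i)) ∧
    (∀ i, @Module.Free Γ(V.toScheme, ⊤) (R i) _ _ (φ i).hom.toAlgebra.toModule) ∧
    (∀ i, uu i ≫ pr = ofRingHom (φ i) ≫ V.ι) ∧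
    ∀ z : P, pr z ∈ V → ∃ i, z ∈ Set.range (uu i)

/-- **Closedness of `∏_{P/X} Z` for essentially free `P ⟶ X` and closed `Z ⊆ P`.** -/
theorem closed_of_essFree (hEF : ∀ V : X.affineOpens, EssFreeAt pr V.1) :
    ∃ (W : Scheme.{u}) (ι : W ⟶ X), IsClosedImmersion ι ∧
      ∀ ⦃T : Scheme.{u}⦄ (g : T ⟶ X), AllIn pr j g ↔ ∃ w : T ⟶ W, w ≫ ι = g := by
  apply closed_of_affine_local (fun T g => AllIn pr j g)
    (fun T T' h g hg => hg.precomp pr j h)
    (fun T g σ O hO h => allIn_zariski_local pr j g O hO h)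
  intro V
  apply ideal_of_toScheme_ideal
  obtain ⟨κ, R, φ, uu, huo, hfree, huu, hcov⟩ := hEF V
  letI : ∀ i, Algebra Γ(V.1.toScheme, ⊤) (R i) := fun i => (φ i).hom.toAlgebra
  haveI : ∀ i, Module.Free Γ(V.1.toScheme, ⊤) (R i) := hfree
  haveI : ∀ i, IsOpenImmersion (uu i) := huo
  exact exists_ideal_allIn pr j V.1 (fun i => R i) uu huu hcov

end Global

end Groth.Agent.H40.CD
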