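import Groth.Agent.H40.CD.EssFree
import Groth.Agent.H40.CD.LocalGlobal
import Mathlib.Algebra.Module.Projective
import Mathlib.RingTheory.FinitePresentation
import Mathlib.RingTheory.RingHom.FinitePresentation
import Mathlib.AlgebraicGeometry.Morphisms.FinitePresentation

/-!
# Closedness of Weil-restriction-type subfunctors: projective charts, finiteness, base change
-/

set_option autoImplicit false
set_option backward.isDefEq.respectTransparency.types false
universe u

open CategoryTheory AlgebraicGeometry Limits TopologicalSpace TensorProduct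

namespace Groth.Agent.H40.CD

/-- the ideal of coefficients of an ideal of a projective algebra. -/
theorem exists_coeff_ideal_proj {A B : Type u} [CommRing A] [CommRing B] [Algebra A B]
    [Module.Projective A B] (J : Ideal B) :
    ∃ C : Ideal A,
      (∀ {R : Type u} [CommRing R] [Algebra A R], (∀ b ∈ J, (b ⊗ₜ[A] (1 : R)) = 0) →
        C ≤ RingHom.ker (algebraMap A R)) ∧
      J ≤ C.map (algebraMap A B) ∧ (J.FG → C.FG) := by
  classical
  obtain ⟨s, hs⟩ := Module.projective_def'.mp (inferInstance : Module.Projective A B)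
  obtain ⟨G, hGJ, hGfin⟩ : ∃ G : Set B, Ideal.span G = J ∧ (J.FG → G.Finite) := by
    by_cases hJ : J.FG
    · obtain ⟨G, hG⟩ := hJ
      exact ⟨G, hG, fun _ => G.finite_toSet⟩
    · exact ⟨J, Ideal.span_eq J, fun h => absurd h hJ⟩
  have hGsub : G ⊆ J := by rw [← hGJ]; exact Ideal.subset_span
  refine ⟨Ideal.span {a | ∃ b ∈ G, ∃ k, s b k = a}, ?_, ?_, ?_⟩
  · intro R _ _ hJ
    rw [Ideal.span_le]
    rintro _ ⟨b, hb, k, rfl⟩
    let f : B ⊗[A] R →ₗ[A] R :=
      (TensorProduct.lid A R).toLinearMap ∘ₗ (LinearMap.rTensor R ((Finsupp.lapply k) ∘ₗ s))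
    have h1 : f (b ⊗ₜ[A] (1 : R)) = algebraMap A R (s b k) := by
      simp [f, Algebra.algebraMap_eq_smul_one]
    rw [hJ b (hGsub hb), map_zero] at h1
    exact h1.symm
  · rw [← hGJ, Ideal.span_le]
    intro b hb
    have hb' : b = Finsupp.linearCombination A id (s b) := by
      have := congrArg (fun φ => φ b) hs
      simpa using this.symm
    rw [hb', Finsupp.linearCombination_apply]
    refine Submodule.sum_mem _ fun k _ => ?_
    change (s b k) • (id k) ∈ _
    rw [Algebra.smul_def]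
    exact Ideal.mul_mem_right _ _ (Ideal.mem_map_of_mem _ (Ideal.subset_span ⟨b, hb, k, rfl⟩))
  · intro hJ
    have hfin : {a | ∃ b ∈ G, ∃ k, s b k = a}.Finite := by
      have : {a | ∃ b ∈ G, ∃ k, s b k = a} = ⋃ b ∈ G, Set.range (s b) := by
        ext a
        simp only [Set.mem_setOf_eq, Set.mem_iUnion, Set.mem_range, exists_prop]
      rw [this]
      exact (hGfin hJ).biUnion fun b _ => Finsupp.finite_range (s b)
    exact ⟨hfin.toFinset, by rw [Set.Finite.coe_toFinset]⟩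

section AllIn

variable {X P Z : Scheme.{u}} (pr : P ⟶ X) (j : Z ⟶ P)

/-- `AllIn` means that the base change of `j` is an isomorphism. -/
theorem allIn_iff_isIso [Mono j] {T : Scheme.{u}} (g : T ⟶ X) :
    AllIn pr j g ↔ IsIso (pullback.snd j (pullback.fst pr g)) := by
  constructor
  · intro h
    obtain ⟨w, hw⟩ := h (pullback.fst pr g) (pullback.snd pr g) pullback.condition
    haveI : IsSplitEpi (pullback.snd j (pullback.fst pr g)) :=
      ⟨⟨pullback.lift w (𝟙 _) (by rw [hw, Category.id_comp]), pullback.lift_snd _ _ _⟩⟩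
    exact isIso_of_mono_of_isSplitEpi _
  · intro h Q q t hqt
    refine ⟨pullback.lift q t hqt ≫ inv (pullback.snd j (pullback.fst pr g)) ≫
      pullback.fst j (pullback.fst pr g), ?_⟩
    rw [Category.assoc, Category.assoc, pullback.condition, IsIso.inv_hom_id_assoc,
      pullback.lift_fst]

/-- `AllIn` descends along flat surjective morphisms. -/
theorem allIn_of_flat_surjective [IsClosedImmersion j] {T T' : Scheme.{u}} (π : T' ⟶ T)
    [Flat π] [Surjective π] (g : T ⟶ X) (h : AllIn pr j (π ≫ g)) : AllIn pr j g := by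
  intro Q q t hqt
  apply factors_of_flat_surjective j (pullback.fst t π) q
  exact h (pullback.fst t π ≫ q) (pullback.snd t π) (by
    rw [Category.assoc, hqt, ← Category.assoc, pullback.condition, Category.assoc])

/-- `AllIn` is compatible with base change. -/
theorem allIn_baseChange_iff {X₁ : Scheme.{u}} (u : X₁ ⟶ X) {T : Scheme.{u}} (g₁ : T ⟶ X₁) :
    AllIn (pullback.snd pr u) (pullback.snd j (pullback.fst pr u)) g₁ ↔ AllIn pr j (g₁ ≫ u) := by
  constructor
  · intro h Q q t hqt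
    obtain ⟨w₁, hw₁⟩ := h (pullback.lift q (t ≫ g₁) (by rw [hqt, Category.assoc])) t
      (pullback.lift_snd _ _ _)
    refine ⟨w₁ ≫ pullback.fst j (pullback.fst pr u), ?_⟩
    rw [Category.assoc, pullback.condition, ← Category.assoc, hw₁, pullback.lift_fst]
  · intro h Q q₁ t hqt
    obtain ⟨w, hw⟩ := h (q₁ ≫ pullback.fst pr u) t (by
      rw [Category.assoc, pullback.condition, ← Category.assoc, hqt, Category.assoc])
    exact ⟨pullback.lift w q₁ hw, pullback.lift_snd _ _ _⟩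

end AllIn

/-- projectivity is invariant under precomposing the structure map with a ring isomorphism. -/
theorem projective_comp_ringEquiv {A A' B : Type u} [CommRing A] [CommRing A'] [CommRing B]
    (ε : A' ≃+* A) (φ : A →+* B)
    (h : @Module.Projective A _ B _ φ.toAlgebra.toModule) :
    @Module.Projective A' _ B _ (φ.comp ε.toRingHom).toAlgebra.toModule := by
  letI i1 : Algebra A B := φ.toAlgebra
  letI i2 : Algebra A' B := (φ.comp ε.toRingHom).toAlgebra
  haveI : RingHomInvPair (ε.symm : A →+* A') (ε : A' →+* A) :=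
    ⟨by ext x; simp, by ext x; simp⟩
  haveI : RingHomInvPair (ε : A' →+* A) (ε.symm : A →+* A') :=
    ⟨by ext x; simp, by ext x; simp⟩
  let e₂ : B ≃ₛₗ[(ε.symm : A →+* A')] B :=
    { toFun := id
      invFun := id
      map_add' := fun _ _ => rfl
      map_smul' := fun a b => by
        change φ a * b = φ (ε (ε.symm a)) * b
        rw [RingEquiv.apply_symm_apply]
      left_inv := fun _ => rfl
      right_inv := fun _ => rfl }
  exact Module.Projective.of_equiv e₂

section Waff0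

variable {X P Z : Scheme.{u}} (pr : P ⟶ X) (j : Z ⟶ P) [IsClosedImmersion j]
  (V : X.Opens) [hV : IsAffine V.toScheme]
  {κ : Type u} (R : κ → Type u) [∀ i, CommRing (R i)] [∀ i, Algebra Γ(V.toScheme, ⊤) (R i)]
  (uu : ∀ i, Spec (CommRingCat.of (R i)) ⟶ P) [∀ i, IsOpenImmersion (uu i)]
  (huu : ∀ i, uu i ≫ pr =
    ofRingHom (CommRingCat.ofHom (algebraMap Γ(V.toScheme, ⊤) (R i))) ≫ V.ι)
  (hcov : ∀ z : P, pr z ∈ V → ∃ i, z ∈ Set.range (uu i))

include huu in
theorem coeff_le_ker_of_allIn_of_isAffine' (i : κ) (C : Ideal Γ(V.toScheme, ⊤))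
    (hC : ∀ {R' : Type u} [CommRing R'] [Algebra Γ(V.toScheme, ⊤) R'],
      (∀ b ∈ chartIdeal j R uu i, (b ⊗ₜ[Γ(V.toScheme, ⊤)] (1 : R')) = 0) →
        C ≤ RingHom.ker (algebraMap Γ(V.toScheme, ⊤) R'))
    {T : Scheme.{u}} [IsAffine T] (g' : T ⟶ V.toScheme) (hg : AllIn pr j (g' ≫ V.ι)) :
    C ≤ RingHom.ker g'.appTop.hom := by
  letI : Algebra Γ(V.toScheme, ⊤) Γ(T, ⊤) := g'.appTop.hom.toAlgebra
  refine hC (R' := Γ(T, ⊤)) fun b hb => ?_
  let ψ₁ : R i →+* R i ⊗[Γ(V.toScheme, ⊤)] Γ(T, ⊤) :=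
    (Algebra.TensorProduct.includeLeft :
      R i →ₐ[Γ(V.toScheme, ⊤)] R i ⊗[Γ(V.toScheme, ⊤)] Γ(T, ⊤)).toRingHom
  let ψ₂ : Γ(T, ⊤) →+* R i ⊗[Γ(V.toScheme, ⊤)] Γ(T, ⊤) :=
    (Algebra.TensorProduct.includeRight :
      Γ(T, ⊤) →ₐ[Γ(V.toScheme, ⊤)] R i ⊗[Γ(V.toScheme, ⊤)] Γ(T, ⊤)).toRingHom
  let h' : Spec (CommRingCat.of (R i ⊗[Γ(V.toScheme, ⊤)] Γ(T, ⊤))) ⟶
      Spec (CommRingCat.of (R i)) := Spec.map (CommRingCat.ofHom ψ₁)
  let t : Spec (CommRingCat.of (R i ⊗[Γ(V.toScheme, ⊤)] Γ(T, ⊤))) ⟶ T :=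
    ofRingHom (CommRingCat.ofHom ψ₂)
  have hcomm : (h' ≫ uu i) ≫ pr = t ≫ g' ≫ V.ι := by
    rw [Category.assoc, huu, ← Category.assoc, ← Category.assoc]
    congr 1
    rw [ofRingHom_comp]
    change Spec.map _ ≫ Spec.map _ ≫ _ = _
    rw [← Category.assoc, ← Spec.map_comp]
    change ofRingHom _ = _
    congr 1
    ext a
    rw [CommRingCat.hom_comp, CommRingCat.hom_comp, RingHom.comp_apply, RingHom.comp_apply]
    change ψ₁ (algebraMap _ _ a) = ψ₂ (algebraMap _ _ a)
    exact ((Algebra.TensorProduct.includeLeft :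
      R i →ₐ[Γ(V.toScheme, ⊤)] R i ⊗[Γ(V.toScheme, ⊤)] Γ(T, ⊤)).commutes a).trans
      ((Algebra.TensorProduct.includeRight :
      Γ(T, ⊤) →ₐ[Γ(V.toScheme, ⊤)] R i ⊗[Γ(V.toScheme, ⊤)] Γ(T, ⊤)).commutes a).symm
  obtain ⟨w, hw⟩ := hg (h' ≫ uu i) t hcomm
  have hfac : ∃ w' , w' ≫ pullback.snd j (uu i) = h' :=
    ⟨pullback.lift w h' hw, pullback.lift_snd _ _ _⟩
  rw [factors_Spec_iff, ker_inv_comp_Spec_map_appTop] at hfac
  have := hfac hb
  rw [RingHom.mem_ker] at this
  exact this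

include huu in
theorem coeff_le_ker_of_allIn' (i : κ) (C : Ideal Γ(V.toScheme, ⊤))
    (hC : ∀ {R' : Type u} [CommRing R'] [Algebra Γ(V.toScheme, ⊤) R'],
      (∀ b ∈ chartIdeal j R uu i, (b ⊗ₜ[Γ(V.toScheme, ⊤)] (1 : R')) = 0) →
        C ≤ RingHom.ker (algebraMap Γ(V.toScheme, ⊤) R'))
    {T : Scheme.{u}} (g' : T ⟶ V.toScheme) (hg : AllIn pr j (g' ≫ V.ι)) :
    C ≤ RingHom.ker g'.appTop.hom := by
  intro a ha
  rw [RingHom.mem_ker]
  apply eq_zero_of_app_eq_zero (fun O : T.affineOpens => O.1.ι)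
    (fun t => by
      obtain ⟨O, hO, htO, -⟩ := exists_isAffineOpen_mem_and_subset (x := t) (U := ⊤) trivial
      exact ⟨⟨O, hO⟩, ⟨t, htO⟩, rfl⟩) ⊤
  intro O
  haveI : IsAffine O.1.toScheme := O.2
  have h1 : AllIn pr j ((O.1.ι ≫ g') ≫ V.ι) := by
    rw [Category.assoc]; exact hg.precomp pr j O.1.ι
  have h2 := coeff_le_ker_of_allIn_of_isAffine' pr j V R uu huu i C hC (O.1.ι ≫ g') h1 ha
  rw [RingHom.mem_ker] at h2
  exact h2

include huu hcov in
theorem allIn_of_le_ker' (C : κ → Ideal Γ(V.toScheme, ⊤))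
    (hC : ∀ i, chartIdeal j R uu i ≤ (C i).map (algebraMap Γ(V.toScheme, ⊤) (R i)))
    {T : Scheme.{u}} (g' : T ⟶ V.toScheme) (hg : ∀ i, C i ≤ RingHom.ker g'.appTop.hom) :
    AllIn pr j (g' ≫ V.ι) := by
  intro Q h t ht
  apply factors_of_zariski_locally j h (fun i => h ⁻¹ᵁ (uu i).opensRange)
  · apply top_le_iff.mp
    intro q _
    have hq : pr (h q) ∈ V := by
      rw [← Scheme.Hom.comp_apply, ht, Scheme.Hom.comp_apply, Scheme.Hom.comp_apply]
      exact (g' (t q)).2
    obtain ⟨i, hi⟩ := hcov (h q) hq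
    exact Opens.mem_iSup.mpr ⟨i, hi⟩
  · intro i
    have hrange : Set.range ((h ⁻¹ᵁ (uu i).opensRange).ι ≫ h) ⊆ Set.range (uu i) := by
      rintro _ ⟨q, rfl⟩
      exact q.2
    obtain ⟨hi', hhi'⟩ : ∃ hi' : (h ⁻¹ᵁ (uu i).opensRange).toScheme ⟶ Spec (CommRingCat.of (R i)),
        hi' ≫ uu i = (h ⁻¹ᵁ (uu i).opensRange).ι ≫ h :=
      ⟨IsOpenImmersion.lift (uu i) _ hrange, IsOpenImmersion.lift_fac _ _ _⟩
    have hfac : ∃ w', w' ≫ pullback.snd j (uu i) = hi' := by
      rw [factors_Spec_iff]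
      refine (hC i).trans ?_
      rw [Ideal.map_le_iff_le_comap]
      intro c hc
      rw [Ideal.mem_comap, RingHom.mem_ker]
      have h1 : hi' ≫ ofRingHom (CommRingCat.ofHom (algebraMap Γ(V.toScheme, ⊤) (R i))) =
          ((h ⁻¹ᵁ (uu i).opensRange).ι ≫ t) ≫ g' := by
        rw [← cancel_mono V.ι, Category.assoc, ← huu, ← Category.assoc, hhi', Category.assoc,
          ht, Category.assoc, Category.assoc]
      have h2 := congrArg (fun φ => (Scheme.Hom.appTop φ).hom c) h1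
      simp only [Scheme.Hom.comp_appTop, ofRingHom_appTop, CommRingCat.hom_comp,
        RingHom.comp_apply, CommRingCat.hom_ofHom] at h2
      have h3 : g'.appTop.hom c = 0 := hg i hc
      rw [h3, map_zero, map_zero] at h2
      rw [CommRingCat.hom_comp, RingHom.comp_apply]
      exact h2
    obtain ⟨w', hw'⟩ := hfac
    exact ⟨w' ≫ pullback.fst j (uu i), by
      rw [Category.assoc, pullback.condition, ← Category.assoc, hw', hhi']⟩


end Waff0

section Waff

variable {X P Z : Scheme.{u}} (pr : P ⟶ X) (j : Z ⟶ P) [IsClosedImmersion j]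
  (V : X.Opens) [hV : IsAffine V.toScheme]
  {κ : Type u} (R : κ → Type u) [∀ i, CommRing (R i)] [∀ i, Algebra Γ(V.toScheme, ⊤) (R i)]
  [∀ i, Module.Projective Γ(V.toScheme, ⊤) (R i)]
  (uu : ∀ i, Spec (CommRingCat.of (R i)) ⟶ P) [∀ i, IsOpenImmersion (uu i)]
  (huu : ∀ i, uu i ≫ pr =
    ofRingHom (CommRingCat.ofHom (algebraMap Γ(V.toScheme, ⊤) (R i))) ≫ V.ι)
  (hcov : ∀ z : P, pr z ∈ V → ∃ i, z ∈ Set.range (uu i))

omit [∀ i, Algebra Γ(V.toScheme, ⊤) (R i)] [∀ i, Module.Projective Γ(V.toScheme, ⊤) (R i)]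
  hV [∀ i, IsOpenImmersion (uu i)] in
theorem chartIdeal_fg [LocallyOfFinitePresentation j] (i : κ) : (chartIdeal j R uu i).FG := by
  set q := pullback.snd j (uu i) with hq
  obtain ⟨haff, hsurj⟩ := IsClosedImmersion.isAffine_surjective_of_isAffine q
  have hfp : q.appTop.hom.FinitePresentation :=
    (HasRingHomProperty.iff_of_isAffine (P := @LocallyOfFinitePresentation) (f := q)).mp
      inferInstance
  have hker : (RingHom.ker q.appTop.hom).FG := by
    letI : Algebra Γ(Spec (CommRingCat.of (R i)), ⊤) Γ(pullback j (uu i), ⊤) :=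
      q.appTop.hom.toAlgebra
    haveI : Algebra.FinitePresentation Γ(Spec (CommRingCat.of (R i)), ⊤)
      Γ(pullback j (uu i), ⊤) := hfp
    exact Algebra.FinitePresentation.ker_fG_of_surjective
      (Algebra.ofId Γ(Spec (CommRingCat.of (R i)), ⊤) Γ(pullback j (uu i), ⊤)) hsurj
  let e : Γ(Spec (CommRingCat.of (R i)), ⊤) ≃+* R i :=
    (Scheme.ΓSpecIso (CommRingCat.of (R i))).commRingCatIsoToRingEquiv
  have hmap : chartIdeal j R uu i = (RingHom.ker q.appTop.hom).map (e : _ →+* R i) := by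
    unfold chartIdeal
    have := Ideal.map_comap_of_equiv (I := RingHom.ker q.appTop.hom) e
    exact this.symm
  rw [hmap]
  exact hker.map _

include huu hcov in
/-- **Affine-local closedness for families with projective charts.** -/
theorem exists_ideal_allIn_proj :
    ∃ I : Ideal Γ(V.toScheme, ⊤), (∀ ⦃T : Scheme.{u}⦄ (g' : T ⟶ V.toScheme),
      AllIn pr j (g' ≫ V.ι) ↔ I ≤ RingHom.ker g'.appTop.hom) ∧
      (Finite κ → LocallyOfFinitePresentation j → I.FG) := by
  have hex := fun i => exists_coeff_ideal_proj (A := Γ(V.toScheme, ⊤)) (chartIdeal j R uu i)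
  choose C hC1 hC2 hC3 using hex
  refine ⟨⨆ i, C i, fun T g' => ⟨fun hg => ?_, fun hI => ?_⟩, fun hfin hfp => ?_⟩
  · exact iSup_le fun i => coeff_le_ker_of_allIn' pr j V R uu huu i (C i) (hC1 i) g' hg
  · exact allIn_of_le_ker' pr j V R uu huu hcov C hC2 g' fun i => (le_iSup C i).trans hI
  · haveI := hfin
    haveI := hfp
    exact Submodule.fg_iSup C fun i => hC3 i (chartIdeal_fg j R uu i)

end Waff

end Groth.Agent.H40.CD
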