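import Groth.Agent.H40.CD.EssProj

/-!
# Closedness of `AllIn` over an affine base with projective affine charts
-/

set_option autoImplicit false
set_option backward.isDefEq.respectTransparency.types false
universe u

open CategoryTheory AlgebraicGeometry Limits TopologicalSpace TensorProduct

namespace Groth.Agent.H40.CD

/-- over an affine base `X₁`, if `P₁` is covered by affine opens whose coordinate rings are
projective over `Γ(X₁, ⊤)`, then `AllIn pr₁ j₁` is a closed subscheme of `X₁`; it is of finite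
presentation if the cover is finite and `j₁` is of finite presentation. -/
theorem exists_closed_allIn_of_affine_proj {X₁ P₁ Z₁ : Scheme.{u}} [IsAffine X₁] (pr₁ : P₁ ⟶ X₁)
    (j₁ : Z₁ ⟶ P₁) [IsClosedImmersion j₁] {κ : Type u} (O : κ → P₁.Opens)
    (hO : ∀ i, IsAffineOpen (O i))
    (hproj : ∀ i, @Module.Projective Γ(X₁, ⊤) _ Γ((O i).toScheme, ⊤) _
      ((O i).ι ≫ pr₁).appTop.hom.toAlgebra.toModule)
    (hcov : ∀ z : P₁, ∃ i, z ∈ O i) :
    ∃ (W₁ : Scheme.{u}) (ι₁ : W₁ ⟶ X₁), IsClosedImmersion ι₁ ∧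
      (∀ ⦃T : Scheme.{u}⦄ (g : T ⟶ X₁), AllIn pr₁ j₁ g ↔ ∃ w : T ⟶ W₁, w ≫ ι₁ = g) ∧
      (Finite κ → LocallyOfFinitePresentation j₁ → LocallyOfFinitePresentation ι₁) := by
  let V : X₁.Opens := ⊤
  haveI hVaff : IsAffine V.toScheme := isAffineOpen_top X₁
  haveI : ∀ i, IsAffine (O i).toScheme := hO
  haveI : IsIso V.ι := inferInstanceAs (IsIso X₁.topIso.hom)
  let a : ∀ i, (O i).toScheme ⟶ V.toScheme := fun i => (O i).ι ≫ pr₁ ≫ X₁.topIso.inv
  have ha : ∀ i, a i ≫ V.ι = (O i).ι ≫ pr₁ := by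
    intro i
    change ((O i).ι ≫ pr₁ ≫ X₁.topIso.inv) ≫ V.ι = _
    rw [Category.assoc, Category.assoc, Scheme.toIso_inv_ι, Category.comp_id]
  let εiso : Γ(V.toScheme, ⊤) ≅ Γ(X₁, ⊤) :=
    ⟨X₁.topIso.inv.appTop, X₁.topIso.hom.appTop,
      by rw [← Scheme.Hom.comp_appTop, Iso.hom_inv_id, Scheme.Hom.id_appTop],
      by rw [← Scheme.Hom.comp_appTop, Iso.inv_hom_id, Scheme.Hom.id_appTop]⟩
  let ε : Γ(V.toScheme, ⊤) ≃+* Γ(X₁, ⊤) := εiso.commRingCatIsoToRingEquiv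
  letI alg : ∀ i, Algebra Γ(V.toScheme, ⊤) Γ((O i).toScheme, ⊤) := fun i =>
    ((((O i).ι ≫ pr₁).appTop.hom).comp ε.toRingHom).toAlgebra
  haveI : ∀ i, Module.Projective Γ(V.toScheme, ⊤) Γ((O i).toScheme, ⊤) := fun i =>
    projective_comp_ringEquiv ε _ (hproj i)
  have halg : ∀ i, CommRingCat.ofHom (algebraMap Γ(V.toScheme, ⊤) Γ((O i).toScheme, ⊤)) =
      (a i).appTop := by
    intro i
    ext x
    change ((((O i).ι ≫ pr₁).appTop.hom).comp ε.toRingHom) x =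
      ((O i).ι ≫ pr₁ ≫ X₁.topIso.inv).appTop.hom x
    rw [← Category.assoc, Scheme.Hom.comp_appTop ((O i).ι ≫ pr₁), CommRingCat.hom_comp,
      RingHom.comp_apply, RingHom.comp_apply]
    rfl
  let uu : ∀ i, Spec (CommRingCat.of Γ((O i).toScheme, ⊤)) ⟶ P₁ := fun i =>
    (O i).toScheme.isoSpec.inv ≫ (O i).ι
  haveI : ∀ i, IsOpenImmersion (uu i) := fun i => by
    change IsOpenImmersion ((O i).toScheme.isoSpec.inv ≫ (O i).ι)
    infer_instance
  have huu : ∀ i, uu i ≫ pr₁ =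
      ofRingHom (CommRingCat.ofHom (algebraMap Γ(V.toScheme, ⊤) Γ((O i).toScheme, ⊤))) ≫ V.ι := by
    intro i
    rw [halg i]
    calc uu i ≫ pr₁ = (O i).toScheme.isoSpec.inv ≫ ((O i).ι ≫ pr₁) := Category.assoc _ _ _
      _ = (O i).toScheme.isoSpec.inv ≫ (a i ≫ V.ι) := by rw [ha]
      _ = ((O i).toScheme.isoSpec.inv ≫ a i) ≫ V.ι := (Category.assoc _ _ _).symm
      _ = (Spec.map (a i).appTop ≫ V.toScheme.isoSpec.inv) ≫ V.ι := by
        rw [Scheme.isoSpec_inv_naturality]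
      _ = ofRingHom (a i).appTop ≫ V.ι := rfl
  have hcov' : ∀ z : P₁, pr₁ z ∈ V → ∃ i, z ∈ Set.range (uu i) := by
    intro z _
    obtain ⟨i, hi⟩ := hcov z
    refine ⟨i, ?_⟩
    obtain ⟨y, hy⟩ : ∃ y, (O i).toScheme.isoSpec.inv y = ⟨z, hi⟩ :=
      (ConcreteCategory.bijective_of_isIso (O i).toScheme.isoSpec.inv.base).2 ⟨z, hi⟩
    refine ⟨y, ?_⟩
    change ((O i).toScheme.isoSpec.inv ≫ (O i).ι) y = z
    rw [Scheme.Hom.comp_apply, hy]
    rfl
  obtain ⟨I, hI, hfg⟩ := exists_ideal_allIn_proj pr₁ j₁ V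
    (fun i => Γ((O i).toScheme, ⊤)) uu huu hcov'
  let ψ : Γ(V.toScheme, ⊤) ⟶ CommRingCat.of (Γ(V.toScheme, ⊤) ⧸ I) :=
    CommRingCat.ofHom (Ideal.Quotient.mk I)
  have hsurj : Function.Surjective ψ.hom := Ideal.Quotient.mk_surjective
  haveI : IsClosedImmersion (ofRingHom ψ) := isClosedImmersion_ofRingHom ψ hsurj
  refine ⟨_, ofRingHom ψ ≫ V.ι, inferInstance, fun T g => ?_, fun hfin hfp => ?_⟩
  · have hg : g = (g ≫ X₁.topIso.inv) ≫ V.ι := by
      rw [Category.assoc, Scheme.toIso_inv_ι, Category.comp_id]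
    have h1 := hI (g ≫ X₁.topIso.inv)
    rw [← hg] at h1
    have key : (∃ w : T ⟶ _, w ≫ ofRingHom ψ = g ≫ X₁.topIso.inv) ↔
        I ≤ RingHom.ker (g ≫ X₁.topIso.inv).appTop.hom := by
      rw [factors_iff_of_isAffine, ker_ofRingHom_appTop]
      change RingHom.ker (Ideal.Quotient.mk I) ≤ _ ↔ _
      rw [Ideal.mk_ker]
    rw [h1, ← key]
    constructor
    · rintro ⟨w, hw⟩
      exact ⟨w, by rw [← Category.assoc, hw, ← hg]⟩
    · rintro ⟨w, hw⟩
      exact ⟨w, by rw [← hw, Category.assoc, Category.assoc, Scheme.ι_toIso_inv, Category.comp_id]⟩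
  · have hIfg : I.FG := hfg hfin hfp
    have hψ : ψ.hom.FinitePresentation := by
      apply RingHom.FinitePresentation.of_surjective _ hsurj
      change (RingHom.ker (Ideal.Quotient.mk I)).FG
      rw [Ideal.mk_ker]
      exact hIfg
    haveI : LocallyOfFinitePresentation (Spec.map ψ) :=
      (HasRingHomProperty.Spec_iff (P := @LocallyOfFinitePresentation)).mpr hψ
    change LocallyOfFinitePresentation ((Spec.map ψ ≫ V.toScheme.isoSpec.inv) ≫ V.ι)
    infer_instance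

end Groth.Agent.H40.CD
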