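import Groth.Agent.H40.CD.FiniteFreeAlg
import Mathlib.AlgebraicGeometry.Morphisms.Finite
import Mathlib.AlgebraicGeometry.Morphisms.Flat
import Mathlib.AlgebraicGeometry.Morphisms.FinitePresentation

/-!
# Finite flat finitely presented morphisms have Zariski-locally free coordinate rings
-/

set_option autoImplicit false
set_option backward.isDefEq.respectTransparency.types false
universe u

open CategoryTheory AlgebraicGeometry Limits TopologicalSpace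

namespace Groth.Agent.H40.CD

theorem exists_free_nhd_of_finite_flat {Y S : Scheme.{u}} (f : Y ⟶ S) [IsFinite f] [Flat f]
    [LocallyOfFinitePresentation f] (s : S) :
    ∃ U : S.affineOpens, s ∈ (U : S.Opens) ∧
      @Module.Free Γ(S, U) Γ(Y, f ⁻¹ᵁ U) _ _ (f.app U).hom.toAlgebra.toModule := by
  obtain ⟨U₀, hU₀, hs, -⟩ := exists_isAffineOpen_mem_and_subset (x := s) (U := ⊤) trivial
  have hV₀ : IsAffineOpen (f ⁻¹ᵁ U₀) := hU₀.preimage f
  letI : Algebra Γ(S, U₀) Γ(Y, f ⁻¹ᵁ U₀) := (f.app U₀).hom.toAlgebra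
  have hfin : Module.Finite Γ(S, U₀) Γ(Y, f ⁻¹ᵁ U₀) :=
    RingHom.finite_algebraMap.mp (f.finite_app U₀ hU₀)
  have happ : f.app U₀ = f.appLE U₀ (f ⁻¹ᵁ U₀) le_rfl := (Scheme.Hom.appLE_eq_app f).symm
  have hflat : Module.Flat Γ(S, U₀) Γ(Y, f ⁻¹ᵁ U₀) := by
    have := f.flat_appLE hU₀ hV₀ le_rfl
    rw [← happ] at this
    exact this
  have hfp : Algebra.FinitePresentation Γ(S, U₀) Γ(Y, f ⁻¹ᵁ U₀) := by
    have := f.finitePresentation_appLE hU₀ hV₀ le_rfl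
    rw [← happ] at this
    exact this
  let p : Ideal Γ(S, U₀) :=
    (IsLocalRing.maximalIdeal (S.presheaf.stalk s)).comap (S.presheaf.germ U₀ s hs).hom
  haveI : p.IsPrime := Ideal.IsPrime.comap _
  obtain ⟨r, hr, hfree⟩ := exists_free_away_of_finite_flat (A := Γ(S, U₀))
    (B := Γ(Y, f ⁻¹ᵁ U₀)) p
  have hle : S.basicOpen r ≤ U₀ := S.basicOpen_le r
  have hsr : s ∈ S.basicOpen r := by
    rw [Scheme.mem_basicOpen _ _ _ hs]
    by_contra hnu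
    exact hr ((IsLocalRing.mem_maximalIdeal _).mpr hnu)
  refine ⟨⟨S.basicOpen r, hU₀.basicOpen r⟩, hsr, ?_⟩
  have hle' : f ⁻¹ᵁ S.basicOpen r ≤ f ⁻¹ᵁ U₀ := fun y hy => hle hy
  letI i1 : Algebra Γ(S, U₀) Γ(S, S.basicOpen r) :=
    (S.presheaf.map (homOfLE hle).op).hom.toAlgebra
  letI i2 : Algebra Γ(Y, f ⁻¹ᵁ U₀) Γ(Y, f ⁻¹ᵁ S.basicOpen r) :=
    (Y.presheaf.map (homOfLE hle').op).hom.toAlgebra
  letI i3 : Algebra Γ(S, S.basicOpen r) Γ(Y, f ⁻¹ᵁ S.basicOpen r) :=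
    (f.app (S.basicOpen r)).hom.toAlgebra
  letI i4 : Algebra Γ(S, U₀) Γ(Y, f ⁻¹ᵁ S.basicOpen r) :=
    ((f.app (S.basicOpen r)).hom.comp (S.presheaf.map (homOfLE hle).op).hom).toAlgebra
  haveI : IsScalarTower Γ(S, U₀) Γ(S, S.basicOpen r) Γ(Y, f ⁻¹ᵁ S.basicOpen r) :=
    IsScalarTower.of_algebraMap_eq' rfl
  haveI : IsScalarTower Γ(S, U₀) Γ(Y, f ⁻¹ᵁ U₀) Γ(Y, f ⁻¹ᵁ S.basicOpen r) := by
    apply IsScalarTower.of_algebraMap_eq'
    change (f.app (S.basicOpen r)).hom.comp (S.presheaf.map (homOfLE hle).op).hom =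
      (Y.presheaf.map (homOfLE hle').op).hom.comp (f.app U₀).hom
    rw [← CommRingCat.hom_comp, ← CommRingCat.hom_comp]
    congr 1
    exact f.naturality (homOfLE hle).op
  haveI : IsLocalization.Away r Γ(S, S.basicOpen r) :=
    hU₀.isLocalization_of_eq_basicOpen r (homOfLE hle) rfl
  haveI : IsLocalization.Away (algebraMap Γ(S, U₀) Γ(Y, f ⁻¹ᵁ U₀) r)
      Γ(Y, f ⁻¹ᵁ S.basicOpen r) :=
    hV₀.isLocalization_of_eq_basicOpen _ (homOfLE hle') (Scheme.preimage_basicOpen f r)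
  exact hfree Γ(S, S.basicOpen r) Γ(Y, f ⁻¹ᵁ S.basicOpen r)

end Groth.Agent.H40.CD
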