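import Mathlib.RingTheory.Localization.Free
import Mathlib.RingTheory.Spectrum.Prime.FreeLocus
import Mathlib.RingTheory.Finiteness.ModuleFinitePresentation
import Mathlib.RingTheory.LocalRing.Module
import Mathlib.Algebra.Module.LocalizedModule.IsLocalization

/-!
# Finite flat finitely presented algebras are free locally on the base
-/

set_option autoImplicit false
universe u

namespace Groth.Agent.H40.CD

section

variable {A B : Type u} [CommRing A] [CommRing B] [Algebra A B]

/-- a finite flat finitely presented module is free on a basic open neighbourhood of any prime. -/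
theorem exists_free_localizedModule_away [Module.Finite A B] [Module.Flat A B]
    [Module.FinitePresentation A B] (p : Ideal A) [p.IsPrime] :
    ∃ r : A, r ∉ p ∧ Module.Free (Localization (.powers r)) (LocalizedModule (.powers r) B) := by
  haveI : Module.Free (Localization.AtPrime p) (LocalizedModule p.primeCompl B) :=
    Module.free_of_flat_of_isLocalRing
  obtain ⟨r, hr, hfree, -⟩ := Module.FinitePresentation.exists_free_localizedModule_powers
    p.primeCompl (LocalizedModule.mkLinearMap p.primeCompl B) (Localization.AtPrime p)
  exact ⟨r, hr, hfree⟩

attribute [local instance] RingHomInvPair.of_ringEquiv in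
/-- transfer of freeness between two models of a localized module. -/
theorem free_of_free_localizedModule (S : Submonoid A) (A' B' : Type u) [CommRing A']
    [Algebra A A'] [IsLocalization S A'] [AddCommGroup B'] [Module A B'] (f : B →ₗ[A] B')
    [IsLocalizedModule S f] [Module A' B'] [IsScalarTower A A' B']
    (h : Module.Free (Localization S) (LocalizedModule S B)) : Module.Free A' B' := by
  set e := (IsLocalization.algEquiv S (Localization S) A').toRingEquiv
  refine (Module.Free.iff_of_equiv (σ := (e : Localization S →+* A'))
    (σ' := (e.symm : A' →+* Localization S)) ?_).mp h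
  refine { __ := IsLocalizedModule.iso S f, map_smul' := ?_ }
  intro r x
  obtain ⟨r, s, rfl⟩ := IsLocalization.exists_mk'_eq S r
  apply ((Module.End.isUnit_iff _).mp (IsLocalizedModule.map_units f s)).1
  simp [e, ← map_smul, ← smul_assoc]

/-- **local freeness** in the form used for schemes. -/
theorem exists_free_away_of_finite_flat [Module.Finite A B] [Module.Flat A B]
    [Algebra.FinitePresentation A B] (p : Ideal A) [p.IsPrime] :
    ∃ r : A, r ∉ p ∧ ∀ (A' B' : Type u) [CommRing A'] [CommRing B'] [Algebra A A'] [Algebra B B']
      [Algebra A' B'] [Algebra A B'] [IsScalarTower A A' B'] [IsScalarTower A B B']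
      [IsLocalization.Away r A'] [IsLocalization.Away (algebraMap A B r) B'], Module.Free A' B' := by
  haveI : Module.FinitePresentation A B := Module.FinitePresentation.of_finite_of_finitePresentation A B
  obtain ⟨r, hr, hfree⟩ := exists_free_localizedModule_away (B := B) p
  refine ⟨r, hr, fun A' B' _ _ _ _ _ _ _ _ _ hB' => ?_⟩
  haveI : IsLocalization (Algebra.algebraMapSubmonoid B (Submonoid.powers r)) B' := by
    rw [Algebra.algebraMapSubmonoid_powers]
    exact hB'
  exact free_of_free_localizedModule (Submonoid.powers r) A' B'
    (IsScalarTower.toAlgHom A B B').toLinearMap hfree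

end

end Groth.Agent.H40.CD
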