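import Groth.Agent.H40.CD.AffineCore
import Groth.Agent.H40.CD.Atlas

/-!
# Closed descent: globalisation
-/

set_option autoImplicit false
set_option backward.isDefEq.respectTransparency.types false
universe u

open CategoryTheory AlgebraicGeometry Limits TopologicalSpace

namespace Groth.Agent.H40.CD

theorem presheaf_map_injective_of_eq {T : Scheme.{u}} {O O' : T.Opens} (h : O = O')
    (i : O ⟶ O') : Function.Injective (T.presheaf.map i.op).hom := by
  subst h
  have : i = 𝟙 O := Subsingleton.elim _ _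
  rw [this]
  simp only [op_id, CategoryTheory.Functor.map_id, CommRingCat.hom_id]
  exact fun _ _ h => h

/-- sections over `V` pulled back along a morphism factoring through `V`. -/
theorem app_comp_ι_eq_zero_iff {X T : Scheme.{u}} (V : X.Opens) (g' : T ⟶ V.toScheme)
    (s : Γ(X, V)) :
    ((g' ≫ V.ι).app V).hom s = 0 ↔ g'.appTop.hom (V.topIso.inv.hom s) = 0 := by
  have e : (⊤ : T.Opens) ≤ (g' ≫ V.ι) ⁻¹ᵁ V := by
    intro x _
    change (V.ι (g' x)) ∈ V
    exact (g' x).2
  have e' : (g' ≫ V.ι) ⁻¹ᵁ V = ⊤ := top_le_iff.mp e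
  have h1 : (g' ≫ V.ι).appLE V ⊤ e = V.topIso.inv ≫ g'.appTop := by
    have := Scheme.Hom.appLE_comp_appLE g' V.ι V ⊤ ⊤ (by simp) le_top
    rw [← this, Scheme.Opens.ι_appLE]
    congr 1
    exact Scheme.Hom.appLE_eq_app g'
  have h2 : (g' ≫ V.ι).appLE V ⊤ e = (g' ≫ V.ι).app V ≫ T.presheaf.map (homOfLE e).op := rfl
  have h3 : g'.appTop.hom (V.topIso.inv.hom s) =
      (T.presheaf.map (homOfLE e).op).hom (((g' ≫ V.ι).app V).hom s) := by
    have := congrArg (fun φ => (CommRingCat.Hom.hom φ) s) (h1.symm.trans h2)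
    simpa only [CommRingCat.hom_comp, RingHom.comp_apply] using this
  rw [h3]
  constructor
  · intro h; rw [h, map_zero]
  · intro h
    exact presheaf_map_injective_of_eq e'.symm (homOfLE e) (h.trans (map_zero _).symm)

/-- test schemes: every ideal of the sections over an affine open is the kernel of a morphism
landing in that affine open. -/
theorem exists_test_scheme {X : Scheme.{u}} (D : X.Opens) (hD : IsAffineOpen D)
    (𝔞 : Ideal Γ(X, D)) :
    ∃ (T : Scheme.{u}) (g : T ⟶ X), g ⁻¹ᵁ D = ⊤ ∧ RingHom.ker (g.app D).hom = 𝔞 := by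
  haveI : IsAffine D.toScheme := hD
  let 𝔞' : Ideal Γ(D.toScheme, ⊤) := 𝔞.comap D.topIso.hom.hom
  let g' : Spec (CommRingCat.of (Γ(D.toScheme, ⊤) ⧸ 𝔞')) ⟶ D.toScheme :=
    ofRingHom (CommRingCat.ofHom (Ideal.Quotient.mk 𝔞'))
  refine ⟨_, g' ≫ D.ι, ?_, ?_⟩
  · apply top_le_iff.mp
    intro x _
    change (D.ι (g' x)) ∈ D
    exact (g' x).2
  · ext s
    rw [RingHom.mem_ker, app_comp_ι_eq_zero_iff, ← RingHom.mem_ker, ker_ofRingHom_appTop]
    change Ideal.Quotient.mk 𝔞' _ = 0 ↔ _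
    rw [Ideal.Quotient.eq_zero_iff_mem, Ideal.mem_comap]
    have : D.topIso.hom.hom (D.topIso.inv.hom s) = s := by
      rw [← RingHom.comp_apply, ← CommRingCat.hom_comp, Iso.inv_hom_id]; rfl
    rw [this]

theorem app_res {X T : Scheme.{u}} (g : T ⟶ X) {D V : X.Opens} (h : D ≤ V) (a : Γ(X, V)) :
    (g.app D).hom ((X.presheaf.map (homOfLE h).op).hom a) =
      (T.presheaf.map (homOfLE (show g ⁻¹ᵁ D ≤ g ⁻¹ᵁ V from fun _ hx => h hx)).op).hom
        ((g.app V).hom a) := by
  have := g.naturality (homOfLE h).op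
  have := congrArg (fun φ => (CommRingCat.Hom.hom φ) a) this
  simp only [CommRingCat.hom_comp, RingHom.comp_apply] at this
  exact this

theorem ι_app_injective {T : Scheme.{u}} (O : T.Opens) :
    Function.Injective (O.ι.app O).hom := by
  rw [Scheme.Opens.ι_app_self]
  exact presheaf_map_injective_of_eq (by simp) _

section Core

variable {X U W' : Scheme.{u}} (f : U ⟶ X) [Flat f] [Surjective f] (hopen : IsOpenMap f)
  (F : ∀ ⦃T : Scheme.{u}⦄, (T ⟶ X) → Prop)
  (hF1 : ∀ ⦃T T' : Scheme.{u}⦄ (h : T' ⟶ T) (g : T ⟶ X), F g → F (h ≫ g))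
  (hF2 : ∀ ⦃T T' : Scheme.{u}⦄ (π : T' ⟶ T) [Flat π] [Surjective π] (g : T ⟶ X),
    F (π ≫ g) → F g)
  (hF2z : ∀ ⦃T : Scheme.{u}⦄ (g : T ⟶ X) {σ : Type u} (O : σ → T.Opens), (⨆ i, O i = ⊤) →
    (∀ i, F ((O i).ι ≫ g)) → F g)
  (i' : W' ⟶ U) [IsClosedImmersion i']
  (hF3 : ∀ ⦃T : Scheme.{u}⦄ (u : T ⟶ U), F (u ≫ f) ↔ ∃ w : T ⟶ W', w ≫ i' = u)

include hopen hF1 hF2 hF3 in
theorem exists_ideal_of_affineOpen (V : X.Opens) (hV : IsAffineOpen V) :
    ∃ I : Ideal Γ(X, V), ∀ ⦃T : Scheme.{u}⦄ (g : T ⟶ X), g ⁻¹ᵁ V = ⊤ →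
      (F g ↔ I ≤ RingHom.ker (g.app V).hom) := by
  obtain ⟨U₁, hU₁, p, q, hp, hps, hpq⟩ := exists_affine_atlas f hopen V hV
  haveI : IsAffine V.toScheme := hV
  obtain ⟨I, hI⟩ := affine_core p (fun T g' => F (g' ≫ V.ι))
    (fun T T' h g hg => by simpa only [Category.assoc] using hF1 h _ hg)
    (fun T T' π _ _ g hg => hF2 π _ (by simpa only [Category.assoc] using hg))
    (pullback.snd i' q) (by
      intro T u₁
      have : (u₁ ≫ p) ≫ V.ι = (u₁ ≫ q) ≫ f := by
        rw [Category.assoc, Category.assoc, hpq]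
      rw [this, hF3]
      constructor
      · rintro ⟨w, hw⟩
        exact ⟨pullback.lift w u₁ hw, pullback.lift_snd _ _ _⟩
      · rintro ⟨w₁, hw₁⟩
        exact ⟨w₁ ≫ pullback.fst i' q, by
          rw [Category.assoc, pullback.condition, ← Category.assoc, hw₁]⟩)
  refine ⟨I.comap V.topIso.inv.hom, fun T g hg => ?_⟩
  have hrange : Set.range g ⊆ Set.range V.ι := by
    rw [Scheme.Opens.range_ι]
    rintro _ ⟨x, rfl⟩
    have : x ∈ g ⁻¹ᵁ V := hg ▸ trivial
    exact this
  obtain ⟨g', rfl⟩ : ∃ g' : T ⟶ V.toScheme, g' ≫ V.ι = g :=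
    ⟨IsOpenImmersion.lift V.ι g hrange, IsOpenImmersion.lift_fac _ _ _⟩
  rw [hI g']
  have hinv : ∀ a : Γ(V.toScheme, ⊤), V.topIso.inv.hom (V.topIso.hom.hom a) = a := by
    intro a
    rw [← RingHom.comp_apply, ← CommRingCat.hom_comp, Iso.hom_inv_id]; rfl
  constructor
  · intro h s hs
    rw [RingHom.mem_ker, app_comp_ι_eq_zero_iff]
    exact h hs
  · intro h a ha
    have := h (x := V.topIso.hom.hom a) (by rw [Ideal.mem_comap, hinv]; exact ha)
    rw [RingHom.mem_ker, app_comp_ι_eq_zero_iff, hinv] at this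
    exact this

include hopen hF1 hF2 hF2z hF3 in
/-- **Descent of closed subfunctors along an open flat surjective morphism.** -/
theorem core : ∃ (W : Scheme.{u}) (ι : W ⟶ X), IsClosedImmersion ι ∧
    ∀ ⦃T : Scheme.{u}⦄ (g : T ⟶ X), F g ↔ ∃ w : T ⟶ W, w ≫ ι = g := by
  have hFA := fun V : X.affineOpens =>
    exists_ideal_of_affineOpen f hopen F hF1 hF2 i' hF3 V.1 V.2
  choose I hI using hFA
  have hmap : ∀ (V : X.affineOpens) (s : Γ(X, V)),
      (I V).map (X.presheaf.map (homOfLE <| X.basicOpen_le s).op).hom =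
        I (X.affineBasicOpen s) := by
    intro V s
    have hDV : (X.affineBasicOpen s).1 ≤ V.1 := X.basicOpen_le s
    have hpre : ∀ {T : Scheme.{u}} (g : T ⟶ X), g ⁻¹ᵁ (X.affineBasicOpen s).1 = ⊤ →
        g ⁻¹ᵁ V.1 = ⊤ := by
      intro T g hg
      apply top_le_iff.mp
      rw [← hg]
      exact fun _ hx => hDV hx
    apply le_antisymm
    · rw [Ideal.map_le_iff_le_comap]
      obtain ⟨T, g, hgD, hker⟩ := exists_test_scheme (X.affineBasicOpen s).1
        (X.affineBasicOpen s).2 (I (X.affineBasicOpen s))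
      have hFg : F g := (hI _ g hgD).mpr hker.ge
      have hle := (hI V g (hpre g hgD)).mp hFg
      intro a ha
      rw [Ideal.mem_comap, ← hker]
      have key := app_res g hDV a
      have := hle ha
      rw [RingHom.mem_ker] at this
      rw [this, map_zero] at key
      exact RingHom.mem_ker.mpr key
    · obtain ⟨T, g, hgD, hker⟩ := exists_test_scheme (X.affineBasicOpen s).1
        (X.affineBasicOpen s).2
        ((I V).map (X.presheaf.map (homOfLE <| X.basicOpen_le s).op).hom)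
      have hFg : F g := by
        refine (hI V g (hpre g hgD)).mpr fun a ha => ?_
        rw [RingHom.mem_ker]
        have h1 : (X.presheaf.map (homOfLE <| X.basicOpen_le s).op).hom a ∈
            RingHom.ker (g.app (X.affineBasicOpen s).1).hom := by
          rw [hker]; exact Ideal.mem_map_of_mem _ ha
        have h2 := (app_res g hDV a).symm.trans (RingHom.mem_ker.mp h1)
        exact presheaf_map_injective_of_eq (hgD.trans (hpre g hgD).symm) _
          (h2.trans (map_zero _).symm)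
      have := (hI _ g hgD).mp hFg
      rw [hker] at this
      exact this
  let K : X.IdealSheafData := { ideal := I, map_ideal_basicOpen := hmap }
  refine ⟨K.subscheme, K.subschemeι, inferInstance, fun T g => ⟨fun hg => ?_, ?_⟩⟩
  · have hle : K ≤ g.ker := by
      refine Scheme.IdealSheafData.le_ofIdeals_iff.mpr fun V => ?_
      change I V ≤ _
      have hpre : ((g ⁻¹ᵁ V.1).ι ≫ g) ⁻¹ᵁ V.1 = ⊤ := Scheme.Opens.ι_preimage_self _
      have := (hI V ((g ⁻¹ᵁ V.1).ι ≫ g) hpre).mp (hF1 _ _ hg)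
      intro a ha
      have h1 := RingHom.mem_ker.mp (this ha)
      change (Scheme.Hom.app (g ⁻¹ᵁ V.1).ι (g ⁻¹ᵁ V.1)).hom ((g.app V.1).hom a) = 0 at h1
      rw [RingHom.mem_ker]
      exact ι_app_injective _ (h1.trans (map_zero _).symm)
    exact ⟨IsClosedImmersion.lift K.subschemeι g (by rw [K.ker_subschemeι]; exact hle),
      IsClosedImmersion.lift_fac _ _ _⟩
  · rintro ⟨w, rfl⟩
    apply hF1
    apply hF2z K.subschemeι (fun V : X.affineOpens => K.subschemeι ⁻¹ᵁ V.1)
    · rw [← Scheme.Hom.preimage_iSup, iSup_affineOpens_eq_top]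
      rfl
    · intro V
      have hpre : ((K.subschemeι ⁻¹ᵁ V.1).ι ≫ K.subschemeι) ⁻¹ᵁ V.1 = ⊤ :=
        Scheme.Opens.ι_preimage_self _
      refine (hI V _ hpre).mpr fun a ha => ?_
      rw [RingHom.mem_ker]
      change (Scheme.Hom.app (K.subschemeι ⁻¹ᵁ V.1).ι (K.subschemeι ⁻¹ᵁ V.1)).hom
        ((K.subschemeι.app V.1).hom a) = 0
      have : (K.subschemeι.app V.1).hom a = 0 := by
        rw [← RingHom.mem_ker, K.ker_subschemeι_app]
        exact ha
      rw [this, map_zero]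

end Core

end Groth.Agent.H40.CD
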