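import Groth.Prelude.Def_Magnet3
import Groth.Agent.H40.CD.Glob
import Mathlib.AlgebraicGeometry.Morphisms.FlatMono
import Mathlib.AlgebraicGeometry.Morphisms.UniversallyOpen

/-!
# Descent of closed fixed-point subschemes along open flat surjective equivariant atlases
-/

set_option autoImplicit false
set_option backward.isDefEq.respectTransparency.types false
universe u

open CategoryTheory MonoidalCategory CartesianMonoidalCategory AlgebraicGeometry Opposite Limits
open Magnet

namespace Groth.Agent.H40.CD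

section

variable {S : Scheme.{u}} {A X : Over S} [MonObj A] (a : MonAct A X)

/-- the predicate defining the fixed-point subfunctor. -/
def IsFixed {T : Over S} (x : T ⟶ X) : Prop :=
  ∀ (T' : Over S) (t : T' ⟶ T) (γ : T' ⟶ A), lift γ (t ≫ x) ≫ a.act = t ≫ x

theorem IsFixed.precomp {T T₂ : Over S} {x : T ⟶ X} (hx : IsFixed a x) (e : T₂ ⟶ T) :
    IsFixed a (e ≫ x) := by
  intro T' t γ
  rw [← Category.assoc]
  exact hx T' (t ≫ e) γ

/-- the fixedness predicate on morphisms of schemes. -/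
def Fix {T : Scheme.{u}} (g : T ⟶ X.left) : Prop :=
  IsFixed a (Over.homMk g : Over.mk (g ≫ X.hom) ⟶ X)

theorem isFixed_iff_fix {T : Over S} (x : T ⟶ X) : IsFixed a x ↔ Fix a x.left := by
  let e : T ≅ Over.mk (x.left ≫ X.hom) := Over.isoMk (Iso.refl _) (by simp)
  have h1 : e.hom ≫ (Over.homMk x.left : Over.mk (x.left ≫ X.hom) ⟶ X) = x := by
    ext; simp [e]
  constructor
  · intro hx
    have := hx.precomp a e.inv
    have h1' : e.inv ≫ x = (Over.homMk x.left : Over.mk (x.left ≫ X.hom) ⟶ X) := by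
      rw [Iso.inv_comp_eq]; exact h1.symm
    rw [h1'] at this
    exact this
  · intro hx
    rw [← h1]
    exact IsFixed.precomp a hx e.hom

theorem fix_precomp {T T' : Scheme.{u}} (h : T' ⟶ T) (g : T ⟶ X.left) (hg : Fix a g) :
    Fix a (h ≫ g) := by
  have : (Over.homMk (h ≫ g) : Over.mk ((h ≫ g) ≫ X.hom) ⟶ X) =
      (Over.homMk h (by simp) : Over.mk ((h ≫ g) ≫ X.hom) ⟶ Over.mk (g ≫ X.hom)) ≫
        Over.homMk g := by
    ext; simp
  unfold Fix
  rw [this]
  exact IsFixed.precomp a hg _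

theorem fix_of_family {κ : Type*} {T : Scheme.{u}} (Tk : κ → Scheme.{u}) (π : ∀ k, Tk k ⟶ T)
    (g : T ⟶ X.left)
    (hepi : ∀ {T'' : Scheme.{u}} (t : T'' ⟶ T) {Y : Scheme.{u}} (b c : T'' ⟶ Y),
      (∀ k, pullback.fst t (π k) ≫ b = pullback.fst t (π k) ≫ c) → b = c)
    (h : ∀ k, Fix a (π k ≫ g)) : Fix a g := by
  intro T' t γ
  ext
  apply hepi t.left
  intro k
  have hw : pullback.snd t.left (π k) ≫ (π k ≫ g) ≫ X.hom = pullback.fst t.left (π k) ≫ T'.hom := by
    have := Over.w t
    dsimp at this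
    rw [← this, pullback.condition_assoc]
    simp only [Category.assoc]
  let P : Over S := Over.mk (pullback.fst t.left (π k) ≫ T'.hom)
  let pr₁ : P ⟶ T' := Over.homMk (pullback.fst t.left (π k))
  let pr₂ : P ⟶ Over.mk ((π k ≫ g) ≫ X.hom) := Over.homMk (pullback.snd t.left (π k)) hw
  have hpr : pr₁ ≫ t ≫ (Over.homMk g : Over.mk (g ≫ X.hom) ⟶ X) =
      pr₂ ≫ (Over.homMk (π k ≫ g) : Over.mk ((π k ≫ g) ≫ X.hom) ⟶ X) := by
    ext
    simp [pr₁, pr₂, pullback.condition_assoc]
  have key := h k P pr₂ (pr₁ ≫ γ)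
  rw [← hpr] at key
  have : pr₁ ≫ (lift γ (t ≫ (Over.homMk g : Over.mk (g ≫ X.hom) ⟶ X)) ≫ a.act) =
      pr₁ ≫ t ≫ (Over.homMk g : Over.mk (g ≫ X.hom) ⟶ X) := by
    rw [← Category.assoc, comp_lift]
    exact key
  exact congrArg CommaMorphism.left this

end

section Main

variable {S : Scheme.{u}} {A X U : Over S} [MonObj A] (aX : MonAct A X) (aU : MonAct A U)

theorem fix_flat_local {T T' : Scheme.{u}} (π : T' ⟶ T) [Flat π] [Surjective π]
    (g : T ⟶ X.left) (h : Fix aX (π ≫ g)) : Fix aX g :=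
  fix_of_family aX (fun _ : Unit => T') (fun _ => π) g (fun t Y b c hbc => by
    haveI : Epi (pullback.fst t π) := Flat.epi_of_flat_of_surjective _
    exact (cancel_epi _).mp (hbc ())) (fun _ => h)

theorem fix_zariski_local {T : Scheme.{u}} (g : T ⟶ X.left) {σ : Type u} (O : σ → T.Opens)
    (hO : ⨆ i, O i = ⊤) (h : ∀ i, Fix aX ((O i).ι ≫ g)) : Fix aX g :=
  fix_of_family aX (fun i : σ => (O i).toScheme) (fun i => (O i).ι) g (fun t Y b c hbc =>
    Scheme.Cover.hom_ext ((T.openCoverOfIsOpenCover O hO).pullback₁ t) b c hbc) h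

variable (f : U ⟶ X) (hf : MonAct.IsEquivariant aU aX f)
  (hfpr : IsPullback (MonAct.fixedPsh.map f hf) (MonAct.fixedPshι aU) (MonAct.fixedPshι aX)
    (yoneda.map f))

include hfpr in
theorem isFixed_comp_iff {T : Over S} (u : T ⟶ U) : IsFixed aX (u ≫ f) ↔ IsFixed aU u := by
  constructor
  · intro hx
    have hpb := hfpr.map ((evaluation (Over S)ᵒᵖ (Type u)).obj (op T))
    obtain ⟨x₁, h1, h2⟩ := Types.exists_of_isPullback hpb
      (⟨u ≫ f, hx⟩ : (MonAct.fixedPsh aX).obj (op T)) (u : (yoneda.obj U).obj (op T)) rfl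
    have h3 : x₁.1 = u := h2
    have := x₁.2
    rw [h3] at this
    exact this
  · intro hu
    exact ((MonAct.fixedPsh.map f hf).app (op T) ⟨u, hu⟩).2

include hfpr in
/-- **Closed fixed points descend along open flat surjective fixed-point-reflecting atlases.** -/
theorem exists_representableBy_fixedPsh [Flat f.left] [Surjective f.left]
    (hopen : IsOpenMap f.left)
    (hU : ∃ (W' : Over S) (i' : W' ⟶ U) (e' : (MonAct.fixedPsh aU).RepresentableBy W'),
      IsClosedImmersion i'.left ∧ ∀ (T : Over S) (w : T ⟶ W'),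
        (MonAct.fixedPshι aU).app (op T) (e'.homEquiv w) = w ≫ i') :
    ∃ (W : Over S) (i : W ⟶ X) (e : (MonAct.fixedPsh aX).RepresentableBy W),
      IsClosedImmersion i.left ∧ ∀ (T : Over S) (w : T ⟶ W),
        (MonAct.fixedPshι aX).app (op T) (e.homEquiv w) = w ≫ i := by
  obtain ⟨W', i', e', hi', he'⟩ := hU
  have hF3 : ∀ ⦃T : Scheme.{u}⦄ (u : T ⟶ U.left),
      Fix aX (u ≫ f.left) ↔ ∃ w : T ⟶ W'.left, w ≫ i'.left = u := by
    intro T u
    let uo : Over.mk (u ≫ U.hom) ⟶ U := Over.homMk u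
    have h1 : Fix aX (u ≫ f.left) ↔ IsFixed aX (uo ≫ f) := (isFixed_iff_fix aX (uo ≫ f)).symm
    rw [h1, isFixed_comp_iff aX aU f hf hfpr]
    constructor
    · intro hu
      refine ⟨(e'.homEquiv.symm ⟨uo, hu⟩).left, ?_⟩
      have := he' _ (e'.homEquiv.symm ⟨uo, hu⟩)
      rw [Equiv.apply_symm_apply] at this
      exact (congrArg CommaMorphism.left this).symm
    · rintro ⟨w, hw⟩
      let wo : Over.mk (u ≫ U.hom) ⟶ W' := Over.homMk w (by
        have := Over.w i'
        dsimp at this ⊢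
        rw [← this, ← Category.assoc, hw])
      have h2 : wo ≫ i' = uo := by ext; exact hw
      have := he' _ wo
      rw [h2] at this
      rw [← this]
      exact (e'.homEquiv wo).2
  obtain ⟨W, ι, hι, hW⟩ := core f.left hopen (fun T g => Fix aX g)
    (fun T T' h g hg => fix_precomp aX h g hg)
    (fun T T' π _ _ g hg => fix_flat_local aX π g hg)
    (fun T g σ O hO h => fix_zariski_local aX g O hO h) i'.left hF3
  haveI : Mono ι := inferInstance
  let i : Over.mk (ι ≫ X.hom) ⟶ X := Over.homMk ι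
  have hfix : ∀ {T : Over S} (w : T ⟶ Over.mk (ι ≫ X.hom)), IsFixed aX (w ≫ i) := by
    intro T w
    rw [isFixed_iff_fix]
    exact (hW _).mpr ⟨w.left, rfl⟩
  have hex : ∀ {T : Over S} (x : (MonAct.fixedPsh aX).obj (op T)),
      ∃ w : T.left ⟶ W, w ≫ ι = x.1.left := fun x =>
    (hW _).mp ((isFixed_iff_fix aX x.1).mp x.2)
  refine ⟨Over.mk (ι ≫ X.hom), i,
    { homEquiv := fun {T} =>
        { toFun := fun w => ⟨w ≫ i, hfix w⟩
          invFun := fun x => Over.homMk (hex x).choose (by
            have h1 := (hex x).choose_spec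
            have h2 := Over.w x.1
            dsimp at h2 ⊢
            rw [← Category.assoc, h1, h2])
          left_inv := fun w => by
            ext
            rw [← cancel_mono ι]
            exact (hex ⟨w ≫ i, hfix w⟩).choose_spec
          right_inv := fun x => by
            apply Subtype.ext
            ext
            exact (hex x).choose_spec }
      homEquiv_comp := fun {T T'} t w => by
        apply Subtype.ext
        exact Category.assoc _ _ _ }, hι, fun T w => rfl⟩

end Main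

end Groth.Agent.H40.CD
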