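import Groth.Agent.H40.FpqcFam
import Groth.Agent.H40.CD.FlatCharts
import Mathlib.AlgebraicGeometry.ZariskisMainTheorem
import Mathlib.AlgebraicGeometry.Morphisms.FlatDescent
import Mathlib.AlgebraicGeometry.Morphisms.LocalFlatDescent

/-!
# fpqc descent of closed immersions, in functor-of-points form
-/

set_option autoImplicit false
set_option backward.isDefEq.respectTransparency.types false
universe u

open CategoryTheory AlgebraicGeometry Limits TopologicalSpace MorphismProperty

namespace Groth.Agent.H40.CD

/-- closed immersions descend along surjective flat quasi-compact morphisms. -/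
theorem isClosedImmersion_descendsAlong :
    DescendsAlong (@IsClosedImmersion : MorphismProperty Scheme.{u})
      (@Surjective ⊓ @Flat ⊓ @QuasiCompact : MorphismProperty Scheme.{u}) where
  of_isPullback {A X Y Z fst snd f g} h hf hfst := by
    haveI : IsClosedImmersion fst := hfst
    have hm : (monomorphisms Scheme.{u}).DescendsAlong
        (@Surjective ⊓ @Flat ⊓ @QuasiCompact : MorphismProperty Scheme.{u}) := by
      rw [← diagonal_isomorphisms]
      infer_instance
    have hmono : Mono g := hm.of_isPullback h hf (inferInstanceAs (Mono fst))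
    have huc : UniversallyClosed g :=
      of_isPullback_of_descendsAlong (P := @UniversallyClosed) h hf inferInstance
    have hlft : LocallyOfFiniteType g :=
      of_isPullback_of_descendsAlong (P := @LocallyOfFiniteType) h hf inferInstance
    haveI : IsSeparated g := inferInstance
    haveI : IsProper g := {}
    exact (IsClosedImmersion.iff_isProper_and_mono g).mpr ⟨inferInstance, hmono⟩

/-- the covering condition of the statements gives a singleton fpqc covering. -/
theorem singleton_mem_fpqcPrecoverage_of_image {Z Y : Scheme.{u}} (q : Z ⟶ Y) (hs : Surjective q)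
    (hf : Flat q)
    (hqc : ∀ V : Y.Opens, IsAffineOpen V →
      ∃ W : Z.Opens, IsCompact (W : Set Z) ∧ q.base '' (W : Set Z) = (V : Set Y)) :
    Presieve.singleton q ∈ Scheme.fpqcPrecoverage Y := by
  refine ⟨?_, ?_⟩
  · rw [← PreZeroHypercover.presieve₀_singleton.{_, _, 0}, Scheme.presieve₀_mem_qcPrecoverage_iff]
    refine ⟨fun {V} hV => ?_⟩
    rw [IsCompactOpenCovered.iff_of_unique]
    obtain ⟨W, hW, hWV⟩ := hqc V hV
    exact ⟨W, hW, hWV⟩
  · rw [Scheme.singleton_mem_precoverage_iff]
    exact ⟨hs.surj, hf⟩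

/-- a base change of a singleton fpqc covering is a singleton fpqc covering. -/
theorem singleton_mem_fpqcPrecoverage_of_isPullback {Z Y Y' Z' : Scheme.{u}} {q : Z ⟶ Y}
    (hq : Presieve.singleton q ∈ Scheme.fpqcPrecoverage Y) {g : Y' ⟶ Y} {p₁ : Z' ⟶ Y'}
    {p₂ : Z' ⟶ Z} (h : IsPullback p₁ p₂ g q) :
    Presieve.singleton p₁ ∈ Scheme.fpqcPrecoverage Y' := by
  have e1 : Presieve.singleton q = Presieve.ofArrows _ (fun _ : PUnit.{1} => q) :=
    (Presieve.ofArrows_pUnit q).symm
  have e2 : Presieve.singleton p₁ = Presieve.ofArrows _ (fun _ : PUnit.{1} => p₁) :=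
    (Presieve.ofArrows_pUnit p₁).symm
  rw [e1] at hq
  rw [e2]
  exact Precoverage.mem_coverings_of_isPullback (fun _ : PUnit.{1} => q) hq g
    (fun _ => p₁) (fun _ => p₂) (fun _ => h)

/-- **fpqc descent of closed immersions, functor of points form**: a monomorphism `f : A ⟶ B`
whose "base change" along a singleton fpqc covering `g : B' ⟶ B` is represented by a closed
immersion `f'` is a closed immersion. -/
theorem isClosedImmersion_of_fpqc_repr {A B B' A' : Scheme.{u}} (f : A ⟶ B) [Mono f] (g : B' ⟶ B)
    (hg : Presieve.singleton g ∈ Scheme.fpqcPrecoverage B) (f' : A' ⟶ B') [IsClosedImmersion f']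
    (hrep : ∀ ⦃T : Scheme.{u}⦄ (b' : T ⟶ B'),
      (∃ w : T ⟶ A, w ≫ f = b' ≫ g) ↔ ∃ w : T ⟶ A', w ≫ f' = b') :
    IsClosedImmersion f := by
  apply prop_of_fpqcPresieve @IsClosedImmersion isClosedImmersion_descendsAlong f hg
  rintro U _ ⟨⟩
  obtain ⟨e, he⟩ := exists_iso_of_repr
    (fun T (b' : T ⟶ B') => ∃ w : T ⟶ A, w ≫ f = b' ≫ g) (pullback.snd f g) f'
    (fun T b' => (factors_pullback_snd_iff f g b').symm) hrep
  rw [← he]
  infer_instance

end Groth.Agent.H40.CD
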