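import Groth.Agent.H40.CD.FpqcImm
import Mathlib.AlgebraicGeometry.Morphisms.Separated

/-!
# The graph of the equivalence relation of a morphism and separatedness of fpqc quotients
-/

set_option autoImplicit false
set_option backward.isDefEq.respectTransparency.types false
universe u

open CategoryTheory AlgebraicGeometry Limits TopologicalSpace MorphismProperty

namespace Groth.Agent.H40.CD

theorem factors_diagonal_iff {Y₀ S T : Scheme.{u}} (f : Y₀ ⟶ S) (m : T ⟶ pullback f f) :
    (∃ w : T ⟶ Y₀, w ≫ pullback.diagonal f = m) ↔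
      m ≫ pullback.fst f f = m ≫ pullback.snd f f := by
  constructor
  · rintro ⟨w, rfl⟩
    rw [Category.assoc, Category.assoc, pullback.diagonal_fst, pullback.diagonal_snd]
  · intro h
    refine ⟨m ≫ pullback.fst f f, ?_⟩
    apply pullback.hom_ext
    · rw [Category.assoc, pullback.diagonal_fst, Category.comp_id]
    · rw [Category.assoc, pullback.diagonal_snd, Category.comp_id, h]

section

variable {S X₀ Y₀ : Scheme.{u}} (fX : X₀ ⟶ S) (fY : Y₀ ⟶ S) (p₀ : X₀ ⟶ Y₀) (hp : p₀ ≫ fY = fX)

/-- the relation "same image under `p₀`" on `X₀ ×_S X₀`. -/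
def SameImage ⦃T : Scheme.{u}⦄ (m : T ⟶ pullback fX fX) : Prop :=
  (m ≫ pullback.fst fX fX) ≫ p₀ = (m ≫ pullback.snd fX fX) ≫ p₀

include hp in
/-- `SameImage` is represented by an immersion, closed if `fY` is separated. -/
theorem exists_immersion_sameImage :
    ∃ (E : Scheme.{u}) (jE : E ⟶ pullback fX fX), IsImmersion jE ∧
      (IsSeparated fY → IsClosedImmersion jE) ∧
      ∀ ⦃T : Scheme.{u}⦄ (m : T ⟶ pullback fX fX), SameImage fX p₀ m ↔ ∃ w : T ⟶ E, w ≫ jE = m := by
  let pp : pullback fX fX ⟶ pullback fY fY :=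
    pullback.lift (pullback.fst fX fX ≫ p₀) (pullback.snd fX fX ≫ p₀)
      (by rw [Category.assoc, Category.assoc, hp, pullback.condition])
  refine ⟨pullback (pullback.diagonal fY) pp, pullback.snd _ _, inferInstance,
    fun h => inferInstance, fun T m => ?_⟩
  rw [factors_pullback_snd_iff, factors_diagonal_iff]
  simp only [SameImage, pp, Category.assoc, pullback.lift_fst, pullback.lift_snd]

variable {Z : Scheme.{u}} (q : Z ⟶ Y₀) (r : Z ⟶ X₀) (hr : r ≫ p₀ = q)

/-- the graph of `q`. -/
theorem factors_graph_iff {T : Scheme.{u}} (b' : T ⟶ pullback (q ≫ fY) fY) :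
    (∃ w : T ⟶ Z, w ≫ pullback.lift (𝟙 Z) q (by rw [Category.id_comp]) = b') ↔
      (b' ≫ pullback.fst (q ≫ fY) fY) ≫ q = b' ≫ pullback.snd (q ≫ fY) fY := by
  constructor
  · rintro ⟨w, rfl⟩
    simp only [Category.assoc, pullback.lift_fst, pullback.lift_snd, Category.comp_id,
      pullback.lift_fst_assoc, Category.id_comp]
  · intro h
    refine ⟨b' ≫ pullback.fst (q ≫ fY) fY, ?_⟩
    apply pullback.hom_ext
    · simp only [Category.assoc, pullback.lift_fst, Category.comp_id]
    · simp only [Category.assoc, pullback.lift_snd]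
      rw [← Category.assoc, h]

include hp hr in
/-- if `q = r ≫ p₀` is an fpqc covering and `SameImage` is represented by a closed immersion,
then `fY` is separated. -/
theorem isSeparated_of_sameImage_closed (hq : Presieve.singleton q ∈ Scheme.fpqcPrecoverage Y₀)
    {E : Scheme.{u}} (jE : E ⟶ pullback fX fX) [IsClosedImmersion jE]
    (hE : ∀ ⦃T : Scheme.{u}⦄ (m : T ⟶ pullback fX fX),
      SameImage fX p₀ m ↔ ∃ w : T ⟶ E, w ≫ jE = m) : IsSeparated fY := by
  -- step 2: the graph of `q` is a closed immersion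
  let Γ : Z ⟶ pullback (q ≫ fY) fY := pullback.lift (𝟙 Z) q (by rw [Category.id_comp])
  haveI : Mono Γ := mono_of_mono_fac (pullback.lift_fst _ _ _ : Γ ≫ pullback.fst _ _ = 𝟙 Z)
  let g₂ : pullback (q ≫ fY) (q ≫ fY) ⟶ pullback (q ≫ fY) fY :=
    pullback.lift (pullback.fst _ _) (pullback.snd _ _ ≫ q)
      (by rw [Category.assoc, pullback.condition])
  have sq₂ : IsPullback g₂ (pullback.snd (q ≫ fY) (q ≫ fY)) (pullback.snd (q ≫ fY) fY) q := by
    apply IsPullback.of_right (h₁₂ := pullback.fst (q ≫ fY) fY) (v₁₃ := q ≫ fY) (h₂₂ := fY)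
    · rw [pullback.lift_fst]
      exact IsPullback.of_hasPullback _ _
    · rw [pullback.lift_snd]
    · exact IsPullback.of_hasPullback _ _
  have hg₂ := singleton_mem_fpqcPrecoverage_of_isPullback hq sq₂
  let rr : pullback (q ≫ fY) (q ≫ fY) ⟶ pullback fX fX :=
    pullback.lift (pullback.fst _ _ ≫ r) (pullback.snd _ _ ≫ r) (by
      have e : r ≫ fX = q ≫ fY := by rw [← hp, ← Category.assoc, hr]
      rw [Category.assoc, Category.assoc, e, pullback.condition])
  haveI hΓ : IsClosedImmersion Γ := by
    apply isClosedImmersion_of_fpqc_repr Γ g₂ hg₂ (pullback.snd jE rr)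
    intro T b''
    rw [factors_graph_iff, factors_pullback_snd_iff, ← hE]
    simp only [SameImage, g₂, rr, Category.assoc, pullback.lift_fst, pullback.lift_snd,
      pullback.lift_fst_assoc, pullback.lift_snd_assoc, hr]
  -- step 1: the diagonal of `fY` is a closed immersion
  let g₁ : pullback (q ≫ fY) fY ⟶ pullback fY fY :=
    pullback.lift (pullback.fst _ _ ≫ q) (pullback.snd _ _)
      (by rw [Category.assoc, pullback.condition])
  have sq₁ : IsPullback g₁ (pullback.fst (q ≫ fY) fY) (pullback.fst fY fY) q := by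
    apply IsPullback.of_right (h₁₂ := pullback.snd fY fY) (v₁₃ := fY) (h₂₂ := fY)
    · rw [pullback.lift_snd]
      exact (IsPullback.of_hasPullback _ _).flip
    · rw [pullback.lift_fst]
    · exact (IsPullback.of_hasPullback _ _).flip
  have hg₁ := singleton_mem_fpqcPrecoverage_of_isPullback hq sq₁
  refine ⟨?_⟩
  apply isClosedImmersion_of_fpqc_repr (pullback.diagonal fY) g₁ hg₁ Γ
  intro T b'
  rw [factors_graph_iff, factors_diagonal_iff]
  simp only [g₁, Category.assoc, pullback.lift_fst, pullback.lift_snd]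

end

end Groth.Agent.H40.CD
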