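import Groth.Agent.H40.CD.GraphRel
import Mathlib.CategoryTheory.Monoidal.Cartesian.Over

/-!
# The graph of the equivalence relation of a morphism of `S`-schemes, in `Over S`
-/

set_option autoImplicit false
set_option backward.isDefEq.respectTransparency.types false
universe u

open CategoryTheory AlgebraicGeometry Limits TopologicalSpace MonoidalCategory
  CartesianMonoidalCategory

namespace Groth.Agent.H40.CD

section

variable {S : Scheme.{u}} {X Y : Over S} (p : X ⟶ Y)

instance mono_graph : Mono (lift (pullback.fst p p) (pullback.snd p p)) := by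
  refine ⟨fun {T} a b h => ?_⟩
  apply pullback.hom_ext
  · have := congrArg (fun φ => φ ≫ fst X X) h
    simpa only [Category.assoc, lift_fst] using this
  · have := congrArg (fun φ => φ ≫ snd X X) h
    simpa only [Category.assoc, lift_snd] using this

theorem sameImage_iff_factors_graph ⦃T : Scheme.{u}⦄ (m : T ⟶ (X ⊗ X).left) :
    SameImage X.hom p.left m ↔
      ∃ w : T ⟶ (pullback p p).left,
        w ≫ (lift (pullback.fst p p) (pullback.snd p p)).left = m := by
  constructor
  · intro h
    let T' : Over S := Over.mk (m ≫ (X ⊗ X).hom)
    let m' : T' ⟶ X ⊗ X := Over.homMk m rfl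
    have h' : (m' ≫ fst X X) ≫ p = (m' ≫ snd X X) ≫ p := by
      ext
      simp only [Over.comp_left, Over.fst_left, Over.snd_left]
      exact h
    refine ⟨(pullback.lift (m' ≫ fst X X) (m' ≫ snd X X) h').left, ?_⟩
    rw [← Over.comp_left]
    have : pullback.lift (m' ≫ fst X X) (m' ≫ snd X X) h' ≫
        lift (pullback.fst p p) (pullback.snd p p) = m' := by
      apply CartesianMonoidalCategory.hom_ext
      · rw [Category.assoc, lift_fst, pullback.lift_fst]
      · rw [Category.assoc, lift_snd, pullback.lift_snd]
    rw [this]
    rfl
  · rintro ⟨w, rfl⟩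
    unfold SameImage
    have h1 : (lift (pullback.fst p p) (pullback.snd p p)).left ≫ pullback.fst X.hom X.hom =
        (pullback.fst p p).left := by
      rw [← Over.fst_left, ← Over.comp_left, lift_fst]
    have h2 : (lift (pullback.fst p p) (pullback.snd p p)).left ≫ pullback.snd X.hom X.hom =
        (pullback.snd p p).left := by
      rw [← Over.snd_left, ← Over.comp_left, lift_snd]
    have h3 : (pullback.fst p p).left ≫ p.left = (pullback.snd p p).left ≫ p.left := by
      rw [← Over.comp_left, ← Over.comp_left, pullback.condition]
    calc ((w ≫ (lift (pullback.fst p p) (pullback.snd p p)).left) ≫ pullback.fst X.hom X.hom) ≫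
          p.left
        = w ≫ ((lift (pullback.fst p p) (pullback.snd p p)).left ≫ pullback.fst X.hom X.hom) ≫
          p.left := by simp only [Category.assoc]
      _ = w ≫ ((lift (pullback.fst p p) (pullback.snd p p)).left ≫ pullback.snd X.hom X.hom) ≫
          p.left := by rw [h1, h2, h3]
      _ = _ := by simp only [Category.assoc]

end

end Groth.Agent.H40.CD
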