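import Mathlib.AlgebraicGeometry.IdealSheaf.Subscheme
import Mathlib.AlgebraicGeometry.Morphisms.ClosedImmersion

/-!
# Intersections of closed subschemes
-/

set_option autoImplicit false
set_option backward.isDefEq.respectTransparency.types false
universe u v

open CategoryTheory AlgebraicGeometry Limits

namespace Groth.Agent.H40.CD

/-- factoring through a closed immersion in terms of kernels. -/
theorem factors_iff_ker_le {X Z T : Scheme.{u}} (j : Z ⟶ X) [IsClosedImmersion j] (x : T ⟶ X) :
    (∃ w : T ⟶ Z, w ≫ j = x) ↔ j.ker ≤ x.ker := by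
  constructor
  · rintro ⟨w, rfl⟩
    exact Scheme.Hom.le_ker_comp w j
  · intro h
    exact ⟨IsClosedImmersion.lift j x h, IsClosedImmersion.lift_fac _ _ _⟩

/-- an arbitrary intersection of closed subschemes is a closed subscheme. -/
theorem exists_closed_iInter {X : Scheme.{u}} {A : Type v} (Z : A → Scheme.{u})
    (j : ∀ a, Z a ⟶ X) [∀ a, IsClosedImmersion (j a)] :
    ∃ (W : Scheme.{u}) (ι : W ⟶ X), IsClosedImmersion ι ∧
      ∀ ⦃T : Scheme.{u}⦄ (x : T ⟶ X), (∃ w : T ⟶ W, w ≫ ι = x) ↔
        ∀ a, ∃ w : T ⟶ Z a, w ≫ j a = x := by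
  refine ⟨(⨆ a, (j a).ker).subscheme, (⨆ a, (j a).ker).subschemeι, inferInstance, fun T x => ?_⟩
  rw [factors_iff_ker_le, Scheme.IdealSheafData.ker_subschemeι, iSup_le_iff]
  exact forall_congr' fun a => (factors_iff_ker_le (j a) x).symm

end Groth.Agent.H40.CD
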