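import Groth.Agent.H40.CD.ChartLocus
import Groth.Agent.H40.CD.FiniteFree
import Groth.Agent.H40.CD.FreeTransport

/-!
# Finite flat morphisms of finite presentation have projective charts
-/

set_option autoImplicit false
set_option backward.isDefEq.respectTransparency.types false
universe u

open CategoryTheory AlgebraicGeometry Limits TopologicalSpace

namespace Groth.Agent.H40.CD

/-- an affine morphism whose coordinate ring over an affine open `U` is free restricts to a
projective chart over `U`. -/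
theorem projMor_of_free_app {S Y₀ : Scheme.{u}} (fy : Y₀ ⟶ S) [IsAffineHom fy] (U : S.Opens)
    (hU : IsAffineOpen U)
    (hfree : @Module.Free Γ(S, U) Γ(Y₀, fy ⁻¹ᵁ U) _ _ (fy.app U).hom.toAlgebra.toModule) :
    ProjMor (pullback.snd fy U.ι) := by
  haveI : IsAffine U.toScheme := hU
  haveI : IsAffine (fy ⁻¹ᵁ U).toScheme := hU.preimage fy
  have hfree' : @Module.Free Γ(U.toScheme, ⊤) Γ((fy ⁻¹ᵁ U).toScheme, ⊤) _ _
      (fy ∣_ U).appTop.hom.toAlgebra.toModule := by
    have e : (fy ∣_ U).appTop = U.topIso.hom ≫ fy.app U ≫ (fy ⁻¹ᵁ U).topIso.inv := by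
      rw [← Scheme.Hom.resLE_eq_morphismRestrict]
      change (fy.resLE U (fy ⁻¹ᵁ U) le_rfl).app ⊤ = _
      rw [Scheme.Hom.resLE_app_top, Scheme.Hom.appLE_eq_app]
    rw [e]
    exact free_of_iso_comp (fy.app U) U.topIso (fy ⁻¹ᵁ U).topIso.symm hfree
  have h1 : ProjMor (fy ∣_ U) :=
    ⟨inferInstance, inferInstance,
      @Module.Projective.of_free _ _ _ _ (fy ∣_ U).appTop.hom.toAlgebra.toModule hfree'⟩
  exact h1.of_iso _ (pullbackRestrictIsoRestrict fy U)
    (pullbackRestrictIsoRestrict_hom_morphismRestrict fy U)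

theorem hasProjCharts_of_free_local {S Y₀ : Scheme.{u}} (fy : Y₀ ⟶ S) [IsAffineHom fy]
    (hfree : ∀ s : S, ∃ U : S.affineOpens, s ∈ (U : S.Opens) ∧
      @Module.Free Γ(S, U) Γ(Y₀, fy ⁻¹ᵁ U) _ _ (fy.app U).hom.toAlgebra.toModule) :
    HasProjCharts fy := by
  intro s
  obtain ⟨U, hs, hU⟩ := hfree s
  have hU' : IsAffine U.1.toScheme := U.2
  refine ⟨U.1, hU', hs, 1, fun _ => U.1.toScheme, fun _ => 𝟙 _, fun _ => inferInstance,
    fun y => ⟨0, y, rfl⟩, fun _ => ?_⟩
  exact (projMor_of_free_app fy U.1 U.2 hU).comp_base (𝟙 _)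

theorem hasProjCharts_of_finite_flat {S Y₀ : Scheme.{u}} (fy : Y₀ ⟶ S) [IsFinite fy] [Flat fy]
    [LocallyOfFinitePresentation fy] : HasProjCharts fy :=
  hasProjCharts_of_free_local fy (exists_free_nhd_of_finite_flat fy)

end Groth.Agent.H40.CD
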