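import Groth.Agent.H40.CD.ProjChartsSpec
import Groth.Prelude.Def_SGA3x

/-!
# Group schemes of multiplicative type have projective charts
-/

set_option autoImplicit false
set_option backward.isDefEq.respectTransparency.types false
universe u

open CategoryTheory AlgebraicGeometry Limits TopologicalSpace TensorProduct

namespace Groth.Agent.H40.CD

theorem ProjMor.pullback_snd {P O O' : Scheme.{u}} {p : P ⟶ O} (h : ProjMor p) (c : O' ⟶ O)
    [IsAffine O'] : ProjMor (pullback.snd p c) :=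
  h.of_isPullback (IsPullback.of_hasPullback p c)

theorem ProjMor.congr {S Y₀ O : Scheme.{u}} {fy : Y₀ ⟶ S} {c c' : O ⟶ S} (h : c = c')
    (hp : ProjMor (pullback.snd fy c)) : ProjMor (pullback.snd fy c') := by
  subst h; exact hp

/-- projective charts only depend on the isomorphism class over the base. -/
theorem projMor_of_over_iso {U : Scheme.{u}} {A B : Over U} (φ : A ≅ B) {O : Scheme.{u}}
    (r : O ⟶ U) (h : ProjMor (pullback.snd B.hom r)) : ProjMor (pullback.snd A.hom r) := by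
  let m := pullback.map A.hom r B.hom r φ.hom.left (𝟙 _) (𝟙 _)
    (by rw [Category.comp_id, Over.w]) (by rw [Category.comp_id, Category.id_comp])
  haveI : IsIso φ.hom.left := inferInstance
  refine h.of_iso _ (asIso m) ?_
  rw [asIso_hom]
  change pullback.map _ _ _ _ _ _ _ _ _ ≫ _ = _
  rw [pullback.lift_snd, Category.comp_id]

theorem projMor_bc_iff {S S' Y₀ O : Scheme.{u}} (fy : Y₀ ⟶ S) (g : S' ⟶ S) (r : O ⟶ S') :
    ProjMor (pullback.snd (pullback.snd fy g) r) ↔ ProjMor (pullback.snd fy (r ≫ g)) :=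
  ⟨fun h => h.of_iso _ (pullbackLeftPullbackSndIso fy g r).symm
      (by rw [Iso.symm_hom, pullbackLeftPullbackSndIso_inv_snd_snd]),
    fun h => h.of_iso _ (pullbackLeftPullbackSndIso fy g r)
      (pullbackLeftPullbackSndIso_hom_snd _ _ _)⟩

/-- the diagonalisable group `D_U(M)` is a projective chart over every affine `O ⟶ U`. -/
theorem projMor_DS (U : Scheme.{u}) (M : Type) [AddCommGroup M] {O : Scheme.{u}} [IsAffine O]
    (r : O ⟶ U) : ProjMor (pullback.snd (Red.DS U M).hom r) := by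
  have h0 : ProjMor (Red.diag (ULift.{u} ℤ) M).hom := by
    change ProjMor (Spec.map (CommRingCat.ofHom (algebraMap (ULift.{u} ℤ)
      (MonoidAlgebra (ULift.{u} ℤ) (Multiplicative M)))))
    apply projMor_SpecMap
    exact projective_of_ringEquiv (A := ULift.{u} ℤ)
      (B := MonoidAlgebra (ULift.{u} ℤ) (Multiplicative M))
      (algebraMap (ULift.{u} ℤ) (MonoidAlgebra (ULift.{u} ℤ) (Multiplicative M)))
      (RingEquiv.refl _) (RingEquiv.refl _) (fun a => rfl)
  exact (projMor_bc_iff _ _ r).mpr (h0.pullback_snd _)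

/-- a group of multiplicative type (of finite type) has projective charts. -/
theorem hasProjCharts_of_isMultTypeFT {S : Scheme.{u}} (H : Over S) [GrpObj H]
    (hH : SGA3x.IsMultTypeFT H) : HasProjCharts H.hom := by
  obtain ⟨S', f, hflat, hsurj, hqc, hloc⟩ := hH
  intro s
  obtain ⟨V, hV, hsV, -⟩ := exists_isAffineOpen_mem_and_subset (x := s) (U := ⊤) trivial
  have hV' : IsAffine V.toScheme := hV
  obtain ⟨W, hWc, hWV⟩ := hqc V hV
  choose U hU M hM hMfg hiso using hloc
  -- affine neighbourhoods inside `U w ⊓ W`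
  have hA : ∀ w : W, ∃ A : S'.Opens, IsAffineOpen A ∧ w.1 ∈ A ∧ A ≤ U w.1 ⊓ W := by
    intro w
    exact TopologicalSpace.Opens.isBasis_iff_nbhd.mp S'.isBasis_affineOpens
      (show w.1 ∈ U w.1 ⊓ W from ⟨hU w.1, w.2⟩)
  choose A hAaff hwA hAle using hA
  have hcov : (W : Set S') ⊆ ⋃ w : W, (SetLike.coe (A w) : Set S') :=
    fun y hy => Set.mem_iUnion.mpr ⟨⟨y, hy⟩, hwA ⟨y, hy⟩⟩
  obtain ⟨t, ht⟩ := hWc.elim_finite_subcover (fun w : W => (SetLike.coe (A w) : Set S'))
    (fun w => (A w).2) hcov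
  let e : Fin t.card ≃ t := t.equivFin.symm
  let pts : Fin t.card → W := fun k => (e k).1
  have hrange : ∀ k, Set.range ((A (pts k)).ι ≫ f) ⊆ Set.range V.ι := by
    rintro k _ ⟨y, rfl⟩
    rw [Scheme.Opens.range_ι, ← hWV]
    exact ⟨y.1, (hAle (pts k) y.2).2, rfl⟩
  let q : ∀ k, (A (pts k)).toScheme ⟶ V.toScheme := fun k =>
    IsOpenImmersion.lift V.ι ((A (pts k)).ι ≫ f) (hrange k)
  have hq : ∀ k, q k ≫ V.ι = (A (pts k)).ι ≫ f := fun k => IsOpenImmersion.lift_fac _ _ _
  haveI : ∀ k, IsAffine (A (pts k)).toScheme := fun k => hAaff (pts k)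
  refine ⟨V, hV', hsV, t.card, fun k => (A (pts k)).toScheme, q, fun k => ?_, fun y => ?_,
    fun k => ?_⟩
  · apply MorphismProperty.of_postcomp (W := @Flat) (W' := @IsOpenImmersion) (q k) V.ι
      inferInstance
    rw [hq k]
    infer_instance
  · have hy : (V.ι y : S) ∈ (V : Set S) := y.2
    rw [← hWV] at hy
    obtain ⟨w, hwW, hw⟩ := hy
    obtain ⟨x, hx⟩ := Set.mem_iUnion.mp (ht hwW)
    obtain ⟨hxt, hwx⟩ := Set.mem_iUnion.mp hx
    refine ⟨e.symm ⟨x, hxt⟩, ?_⟩
    have hpts : pts (e.symm ⟨x, hxt⟩) = x := by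
      change (e (e.symm ⟨x, hxt⟩)).1 = x
      rw [Equiv.apply_symm_apply]
    refine ⟨⟨w, by rw [hpts]; exact hwx⟩, ?_⟩
    apply V.ι.isOpenEmbedding.injective
    rw [← Scheme.Hom.comp_apply, hq]
    exact hw
  · obtain ⟨φ⟩ := hiso (pts k).1
    have hle : A (pts k) ≤ U (pts k).1 := (hAle (pts k)).trans inf_le_left
    have h1 : ProjMor (pullback.snd (Red.bc ((U (pts k).1).ι ≫ f) H).hom (S'.homOfLE hle)) :=
      projMor_of_over_iso ((Grp.forget _).mapIso φ) _ (projMor_DS _ _ _)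
    have h2 := (projMor_bc_iff H.hom ((U (pts k).1).ι ≫ f) (S'.homOfLE hle)).mp h1
    refine h2.congr ?_
    rw [hq k, ← Category.assoc, Scheme.homOfLE_ι]

end Groth.Agent.H40.CD
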