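import Groth.Agent.H40.CD.QuotSep
import Groth.Agent.H40.FpqcTors
import Groth.Agent.H40.CD.SecInj

/-!
# Reducedness and flatness for fpqc quotients `G ⟶ G/G'`
-/

set_option autoImplicit false
set_option backward.isDefEq.respectTransparency.types false
universe u v

open CategoryTheory AlgebraicGeometry Limits TopologicalSpace MonoidalCategory
  CartesianMonoidalCategory MonObj GrpObj

namespace Groth.Agent.H40.CD

/-- if a flat surjective morphism to `Y` factors through a reduced scheme, `Y` is reduced. -/
theorem isReduced_of_flat_surjective_factor {Z X Y : Scheme.{u}} (r : Z ⟶ X) (p : X ⟶ Y)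
    [Flat (r ≫ p)] [Surjective (r ≫ p)] [IsReduced X] : IsReduced Y := by
  haveI : ∀ y : Y, _root_.IsReduced (Y.presheaf.stalk y) := by
    intro y
    obtain ⟨z, rfl⟩ := (r ≫ p).surjective y
    have hinj := stalkMap_injective_of_flat (r ≫ p) z
    rw [Scheme.Hom.stalkMap_comp] at hinj
    have hinj' : Function.Injective (p.stalkMap (r z)).hom := by
      intro a b hab
      apply hinj
      show (r.stalkMap z).hom ((p.stalkMap (r z)).hom a) =
        (r.stalkMap z).hom ((p.stalkMap (r z)).hom b)
      rw [hab]
    exact isReduced_of_injective (p.stalkMap (r z)).hom hinj'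
  exact isReduced_of_isReduced_stalk Y

/-- descent of a property along a singleton fpqc covering, for a cartesian square. -/
theorem prop_of_fpqc_isPullback (P : MorphismProperty Scheme.{u}) [IsZariskiLocalAtTarget P]
    (hP : P.DescendsAlong (@Surjective ⊓ @Flat ⊓ @QuasiCompact : MorphismProperty Scheme.{u}))
    {A X Y Z : Scheme.{u}} {a : A ⟶ X} {b : A ⟶ Z} {f : X ⟶ Y} {q : Z ⟶ Y}
    (sq : IsPullback a b f q) (hq : Presieve.singleton q ∈ Scheme.fpqcPrecoverage Y)
    (hb : P b) : P f := by
  apply prop_of_fpqcPresieve P hP f hq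
  rintro U _ ⟨⟩
  rw [← sq.isoPullback_inv_snd]
  exact (MorphismProperty.cancel_left_of_respectsIso P _ _).mpr hb

section Sch

variable {S : Scheme.{u}} {G G' G'' : Over S} [GrpObj G] (u : G' ⟶ G) (p : G ⟶ G'')

/-- descent of a property of the projection `G ×_S G' ⟶ G` to the quotient map. -/
theorem prop_quot_of_prop_fst (P : MorphismProperty Scheme.{u}) [IsZariskiLocalAtTarget P]
    [P.IsStableUnderBaseChange]
    (hP : P.DescendsAlong (@Surjective ⊓ @Flat ⊓ @QuasiCompact : MorphismProperty Scheme.{u}))
    (hsq : IsPullback ((G ◁ u) ≫ μ[G]) (fst G G') p p)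
    {Z : Scheme.{u}} (q : Z ⟶ G''.left) (r : Z ⟶ G.left) (hr : r ≫ p.left = q)
    (hq : Presieve.singleton q ∈ Scheme.fpqcPrecoverage G''.left)
    (h : P (fst G G').left) : P p.left := by
  have hsqL : IsPullback ((G ◁ u) ≫ μ[G]).left (fst G G').left p.left p.left :=
    hsq.map (Over.forget S)
  have h1 := IsPullback.of_hasPullback (fst G G').left r
  have h2 := h1.paste_horiz hsqL
  rw [hr] at h2
  exact prop_of_fpqc_isPullback P hP h2 hq (MorphismProperty.pullback_snd _ _ h)

theorem prop_fst_of_prop_hom (P : MorphismProperty Scheme.{u}) [P.IsStableUnderBaseChange]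
    (h : P G'.hom) : P (fst G G').left := by
  rw [Over.fst_left]
  exact MorphismProperty.pullback_fst _ _ h

/-- a property of the quotient map passes to the structure morphism of the subgroup. -/
theorem prop_hom_of_prop_quot (P : MorphismProperty Scheme.{u}) [P.IsStableUnderBaseChange]
    (sq : IsPullback u (toUnit G') p (η[G] ≫ p)) (h : P p.left) : P G'.hom := by
  have sqL : IsPullback u.left (toUnit G').left p.left (η[G] ≫ p).left :=
    sq.map (Over.forget S)
  exact MorphismProperty.of_isPullback (P := P) sqL h

end Sch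

end Groth.Agent.H40.CD
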