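import Groth.Agent.H40.CD.GraphRelOver
import Groth.Agent.H40.Torsor

/-!
# The kernel square of an fpqc quotient `G ⟶ G/G'` and separatedness of the quotient
-/

set_option autoImplicit false
set_option backward.isDefEq.respectTransparency.types false
universe u v

open CategoryTheory AlgebraicGeometry Limits TopologicalSpace MonoidalCategory
  CartesianMonoidalCategory MonObj GrpObj

namespace Groth.Agent.H40.CD

section Cat

variable {C : Type u} [Category.{v} C] [CartesianMonoidalCategory C] {G G' G'' : C} [GrpObj G]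
  (u : G' ⟶ G) (p : G ⟶ G'')

theorem whiskerLeft_mul_eq : (G ◁ u) ≫ μ[G] = fst G G' * (snd G G' ≫ u) := by
  rw [MonObj.mul_eq_mul, MonObj.comp_mul, whiskerLeft_fst, whiskerLeft_snd]

theorem kernel_comm (hsq : IsPullback ((G ◁ u) ≫ μ[G]) (fst G G') p p) :
    u ≫ p = (1 : G' ⟶ G) ≫ p := by
  have h := congrArg (fun φ => lift (1 : G' ⟶ G) (𝟙 G') ≫ φ) hsq.w
  simp only [whiskerLeft_mul_eq, ← Category.assoc, MonObj.comp_mul, lift_fst, lift_snd,
    Category.id_comp] at h
  rw [_root_.one_mul] at h
  exact h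

theorem kernel_factors (hsq : IsPullback ((G ◁ u) ≫ μ[G]) (fst G G') p p) {T : C} (a : T ⟶ G)
    (ha : a ≫ p = (1 : T ⟶ G) ≫ p) : ∃ h : T ⟶ G', h ≫ u = a := by
  have h1 := hsq.lift_fst a 1 ha
  have h2 := hsq.lift_snd a 1 ha
  generalize hsq.lift a 1 ha = l at h1 h2
  refine ⟨l ≫ snd G G', ?_⟩
  rw [whiskerLeft_mul_eq, MonObj.comp_mul, h2, _root_.one_mul, ← Category.assoc] at h1
  exact h1

/-- the kernel square. -/
theorem isPullback_kernel [Mono u] (hsq : IsPullback ((G ◁ u) ≫ μ[G]) (fst G G') p p) :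
    IsPullback u (toUnit G') p (η[G] ≫ p) := by
  have hone : ∀ {T : C} (b : T ⟶ 𝟙_ C), b ≫ η[G] ≫ p = (1 : T ⟶ G) ≫ p := by
    intro T b
    rw [← Category.assoc, Hom.one_def, toUnit_unique b (toUnit T)]
  have hcond : ∀ s : PullbackCone p (η[G] ≫ p), s.fst ≫ p = (1 : s.pt ⟶ G) ≫ p := fun s => by
    rw [s.condition, hone]
  refine ⟨⟨by rw [kernel_comm u p hsq, hone]⟩, ⟨PullbackCone.IsLimit.mk _
    (fun s => (kernel_factors u p hsq s.fst (hcond s)).choose)
    (fun s => (kernel_factors u p hsq s.fst (hcond s)).choose_spec)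
    (fun s => toUnit_unique _ _) ?_⟩⟩
  intro s m h1 h2
  rw [← cancel_mono u, h1, (kernel_factors u p hsq s.fst (hcond s)).choose_spec]

/-- the shear isomorphism `(a, b) ↦ (a * b, a)`. -/
def shearIso (G : C) [GrpObj G] : G ⊗ G ≅ G ⊗ G where
  hom := lift (fst G G * snd G G) (fst G G)
  inv := lift (snd G G) ((snd G G)⁻¹ * fst G G)
  hom_inv_id := by
    apply CartesianMonoidalCategory.hom_ext
    · simp only [Category.assoc, lift_fst, lift_snd, Category.id_comp]
    · simp only [Category.assoc, lift_fst, lift_snd, Category.id_comp, MonObj.comp_mul,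
        GrpObj.comp_inv, _root_.inv_mul_cancel_left, _root_.mul_inv_cancel_left]
  inv_hom_id := by
    apply CartesianMonoidalCategory.hom_ext
    · simp only [Category.assoc, lift_fst, lift_snd, Category.id_comp, MonObj.comp_mul,
        _root_.mul_inv_cancel_left]
    · simp only [Category.assoc, lift_fst, lift_snd, Category.id_comp]

theorem whiskerLeft_shearIso :
    (G ◁ u) ≫ (shearIso G).hom = lift ((G ◁ u) ≫ μ[G]) (fst G G') := by
  apply CartesianMonoidalCategory.hom_ext
  · simp only [shearIso, Category.assoc, lift_fst, whiskerLeft_mul_eq, MonObj.comp_mul,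
      whiskerLeft_fst, whiskerLeft_snd]
  · simp only [shearIso, Category.assoc, lift_snd, whiskerLeft_fst]

end Cat

section Sch

variable {S : Scheme.{u}} {G G' G'' : Over S} [GrpObj G] (u : G' ⟶ G) (p : G ⟶ G'')

theorem unit_comp_left_hom : (η[G] ≫ p).left ≫ G''.hom = 𝟙 S := by
  rw [Over.w]
  rfl

theorem isIso_unit_comp_left_hom : IsIso ((η[G] ≫ p).left ≫ G''.hom) := by
  rw [unit_comp_left_hom]
  exact IsIso.id S

theorem isImmersion_of_kernel (sq : IsPullback u (toUnit G') p (η[G] ≫ p)) :
    IsImmersion u.left := by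
  have sqL : IsPullback u.left (toUnit G').left p.left (η[G] ≫ p).left :=
    sq.map (Over.forget S)
  haveI := isIso_unit_comp_left_hom (G := G) p
  haveI : IsImmersion ((η[G] ≫ p).left ≫ G''.hom) := inferInstance
  have h : IsImmersion (η[G] ≫ p).left := IsImmersion.of_comp _ G''.hom
  exact MorphismProperty.of_isPullback (P := @IsImmersion) sqL.flip h

theorem isClosedImmersion_unit_of_isSeparated [IsSeparated G''.hom] :
    IsClosedImmersion (η[G] ≫ p).left := by
  haveI := isIso_unit_comp_left_hom (G := G) p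
  haveI : IsClosedImmersion ((η[G] ≫ p).left ≫ G''.hom) := inferInstance
  exact IsClosedImmersion.of_comp _ G''.hom

theorem isClosedImmersion_of_unit (sq : IsPullback u (toUnit G') p (η[G] ≫ p))
    [h : IsClosedImmersion (η[G] ≫ p).left] : IsClosedImmersion u.left := by
  have sqL : IsPullback u.left (toUnit G').left p.left (η[G] ≫ p).left :=
    sq.map (Over.forget S)
  exact MorphismProperty.of_isPullback (P := @IsClosedImmersion) sqL.flip h

theorem isClosedImmersion_unit_of_fpqc (sq : IsPullback u (toUnit G') p (η[G] ≫ p))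
    {Z : Scheme.{u}} (q : Z ⟶ G''.left) (r : Z ⟶ G.left) (hr : r ≫ p.left = q)
    (hq : Presieve.singleton q ∈ Scheme.fpqcPrecoverage G''.left) [IsClosedImmersion u.left] :
    IsClosedImmersion (η[G] ≫ p).left := by
  have sqL : IsPullback u.left (toUnit G').left p.left (η[G] ≫ p).left :=
    sq.map (Over.forget S)
  haveI := isIso_unit_comp_left_hom (G := G) p
  haveI : Mono (η[G] ≫ p).left := mono_of_mono (η[G] ≫ p).left G''.hom
  apply isClosedImmersion_of_fpqc_repr (η[G] ≫ p).left q hq (pullback.snd u.left r)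
  intro T b'
  rw [factors_pullback_snd_iff]
  constructor
  · rintro ⟨w, hw⟩
    refine ⟨sqL.lift (b' ≫ r) w ?_, sqL.lift_fst _ _ _⟩
    rw [hw, Category.assoc, hr]
  · rintro ⟨w, hw⟩
    refine ⟨w ≫ (toUnit G').left, ?_⟩
    rw [Category.assoc, ← sqL.w, ← Category.assoc, hw, Category.assoc, hr]

theorem isSeparated_of_isClosedImmersion
    (hsq : IsPullback ((G ◁ u) ≫ μ[G]) (fst G G') p p)
    {Z : Scheme.{u}} (q : Z ⟶ G''.left) (r : Z ⟶ G.left) (hr : r ≫ p.left = q)
    (hq : Presieve.singleton q ∈ Scheme.fpqcPrecoverage G''.left) [IsClosedImmersion u.left] :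
    IsSeparated G''.hom := by
  have hsqL : IsPullback ((G ◁ u) ≫ μ[G]).left (fst G G').left p.left p.left :=
    hsq.map (Over.forget S)
  have hwl : IsPullback (G ◁ u).left (snd G G').left (snd G G).left u.left :=
    (Groth.Agent.H40.isPullback_whiskerLeft_snd u G).map (Over.forget S)
  haveI : IsClosedImmersion (G ◁ u).left :=
    MorphismProperty.of_isPullback (P := @IsClosedImmersion) hwl.flip inferInstance
  let jE : (G ⊗ G').left ⟶ pullback G.hom G.hom := (lift ((G ◁ u) ≫ μ[G]) (fst G G')).left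
  haveI : IsIso (shearIso G).hom.left := inferInstance
  haveI : IsClosedImmersion jE := by
    show IsClosedImmersion (lift ((G ◁ u) ≫ μ[G]) (fst G G')).left
    rw [← whiskerLeft_shearIso, Over.comp_left]
    infer_instance
  have h1 : jE ≫ pullback.fst G.hom G.hom = ((G ◁ u) ≫ μ[G]).left := by
    rw [← Over.fst_left, ← Over.comp_left, lift_fst]
  have h2 : jE ≫ pullback.snd G.hom G.hom = (fst G G').left := by
    rw [← Over.snd_left, ← Over.comp_left, lift_snd]
  apply isSeparated_of_sameImage_closed G.hom G''.hom p.left (Over.w p) q r hr hq jE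
  intro T m
  unfold SameImage
  constructor
  · intro h
    refine ⟨hsqL.lift _ _ h, ?_⟩
    apply pullback.hom_ext
    · rw [Category.assoc, h1, hsqL.lift_fst]
    · rw [Category.assoc, h2, hsqL.lift_snd]
  · rintro ⟨w, rfl⟩
    simp only [Category.assoc]
    rw [reassoc_of% h1, reassoc_of% h2, hsqL.w]

end Sch

end Groth.Agent.H40.CD
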